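import Cfsg.Agent.H95.Tower
import Cfsg.Agent.S0071

set_option autoImplicit false
set_option linter.unusedSectionVars false

/-!
Groups such as `SL(2, q)`, `q ≡ ±3 (mod 8)`: overgroups of a quaternion Sylow `2`-subgroup which is its own normaliser.
-/

namespace Cfsg.Agent.H95

universe u

/-- two nontrivial "TI, self-normalising" subgroups have a common conjugate element -/
theorem ti_count {G : Type u} [Group G] [Finite G] {A B : Subgroup G} (hA0 : ∃ a ∈ A, a ≠ 1) (hB0 : ∃ b ∈ B, b ≠ 1)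
    (hA : ∀ g : G, ∀ a ∈ A, a ≠ 1 → g * a * g⁻¹ ∈ A → g ∈ A) (hB : ∀ g : G, ∀ b ∈ B, b ≠ 1 → g * b * g⁻¹ ∈ B → g ∈ B)
    (hAB : ∀ g : G, ∀ a ∈ A, a ≠ 1 → g * a * g⁻¹ ∉ B) : False := by
  classical
  let fA : (G ⧸ A) × {a : A // a ≠ 1} → {g : G // g ≠ 1} := fun p =>
    ⟨p.1.out * (p.2.1 : G) * p.1.out⁻¹, fun h => p.2.2 (Subtype.ext (by
      rw [mul_inv_eq_iff_eq_mul, one_mul] at h
      exact mul_eq_left.1 h))⟩
  let fB : (G ⧸ B) × {a : B // a ≠ 1} → {g : G // g ≠ 1} := fun p =>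
    ⟨p.1.out * (p.2.1 : G) * p.1.out⁻¹, fun h => p.2.2 (Subtype.ext (by
      rw [mul_inv_eq_iff_eq_mul, one_mul] at h
      exact mul_eq_left.1 h))⟩
  have inj : ∀ (C : Subgroup G) (_ : ∀ g : G, ∀ a ∈ C, a ≠ 1 → g * a * g⁻¹ ∈ C → g ∈ C) (p q : (G ⧸ C) × {a : C // a ≠ 1}),
      p.1.out * (p.2.1 : G) * p.1.out⁻¹ = q.1.out * (q.2.1 : G) * q.1.out⁻¹ → p = q := by
    rintro C hC ⟨x, ⟨a, ha⟩, ha1⟩ ⟨y, ⟨b, hb⟩, hb1⟩ h
    simp only at h
    have h1 : (y.out⁻¹ * x.out) * a * (y.out⁻¹ * x.out)⁻¹ = b := by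
      have : (y.out⁻¹ * x.out) * a * (y.out⁻¹ * x.out)⁻¹ = y.out⁻¹ * (x.out * a * x.out⁻¹) * y.out := by group
      rw [this, h]; group
    have h2 := hC _ a ha (fun h => ha1 (Subtype.ext h)) (by rw [h1]; exact hb)
    have h3 : y = x := by
      rw [← QuotientGroup.out_eq' y, ← QuotientGroup.out_eq' x, QuotientGroup.eq]
      exact h2
    subst h3
    have h4 : a = b := by
      rw [← h1]; group
    subst h4
    rfl
  have hinj : Function.Injective (Sum.elim fA fB) := by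
    rintro (p | p) (q | q) h
    · exact congrArg Sum.inl (inj A hA p q (congrArg Subtype.val h))
    · exfalso
      have h1 : p.1.out * (p.2.1 : G) * p.1.out⁻¹ = q.1.out * (q.2.1 : G) * q.1.out⁻¹ := congrArg Subtype.val h
      apply hAB (q.1.out⁻¹ * p.1.out) p.2.1 p.2.1.2 (fun h => p.2.2 (Subtype.ext h))
      have h2 : q.1.out⁻¹ * p.1.out * (p.2.1 : G) * (q.1.out⁻¹ * p.1.out)⁻¹ =
          q.1.out⁻¹ * (p.1.out * (p.2.1 : G) * p.1.out⁻¹) * q.1.out := by group
      rw [h2, h1]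
      have h3 : q.1.out⁻¹ * (q.1.out * (q.2.1 : G) * q.1.out⁻¹) * q.1.out = q.2.1 := by group
      rw [h3]; exact q.2.1.2
    · exfalso
      have h1 : p.1.out * (p.2.1 : G) * p.1.out⁻¹ = q.1.out * (q.2.1 : G) * q.1.out⁻¹ := congrArg Subtype.val h
      apply hAB (p.1.out⁻¹ * q.1.out) q.2.1 q.2.1.2 (fun h => q.2.2 (Subtype.ext h))
      have h2 : p.1.out⁻¹ * q.1.out * (q.2.1 : G) * (p.1.out⁻¹ * q.1.out)⁻¹ =
          p.1.out⁻¹ * (q.1.out * (q.2.1 : G) * q.1.out⁻¹) * p.1.out := by group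
      rw [h2, ← h1]
      have h3 : p.1.out⁻¹ * (p.1.out * (p.2.1 : G) * p.1.out⁻¹) * p.1.out = p.2.1 := by group
      rw [h3]; exact p.2.1.2
    · exact congrArg Sum.inr (inj B hB p q (congrArg Subtype.val h))
  have hle := Nat.card_le_card_of_injective _ hinj
  rw [Nat.card_sum, Nat.card_prod, Nat.card_prod] at hle
  have hsub : ∀ (X : Type u) [Group X] [Finite X], Nat.card {x : X // x ≠ 1} = Nat.card X - 1 := by
    intro X _ _
    have : Fintype X := Fintype.ofFinite X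
    rw [Nat.card_eq_fintype_card, Nat.card_eq_fintype_card, Fintype.card_subtype_compl, Fintype.card_subtype_eq]
  rw [hsub, hsub, hsub] at hle
  have ca := A.card_mul_index
  have cb := B.card_mul_index
  rw [Subgroup.index_eq_card] at ca cb
  have two : ∀ C : Subgroup G, (∃ a ∈ C, a ≠ 1) → 2 ≤ Nat.card C := by
    rintro C ⟨a, ha, h⟩
    have : Nontrivial C := ⟨⟨⟨a, ha⟩, 1, fun h1 => h (congrArg Subtype.val h1)⟩⟩
    exact Finite.one_lt_card
  have a2 := two A hA0
  have b2 := two B hB0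
  obtain ⟨a, ha⟩ : ∃ a, Nat.card A = a + 2 := ⟨Nat.card A - 2, by omega⟩
  obtain ⟨b, hb⟩ : ∃ b, Nat.card B = b + 2 := ⟨Nat.card B - 2, by omega⟩
  have hpos : 0 < Nat.card G := Nat.card_pos
  rw [ha, hb] at hle
  rw [ha] at ca
  rw [hb] at cb
  set m := Nat.card (G ⧸ A)
  set n := Nat.card (G ⧸ B)
  have e1 : a + 2 - 1 = a + 1 := by omega
  have e2 : b + 2 - 1 = b + 1 := by omega
  rw [e1, e2] at hle
  have h1 : 2 * (m * (a + 1)) ≥ Nat.card G := by rw [← ca]; nlinarith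
  have h2 : 2 * (n * (b + 1)) ≥ Nat.card G := by rw [← cb]; nlinarith
  omega

/-- centralisers of noncentral elements are commutative, one involution -/
structure CA {G : Type u} [Group G] (z : G) : Prop where
  zc : ∀ g, z * g = g * z
  zz : z * z = 1
  z1 : z ≠ 1
  inv : ∀ u : G, u * u = 1 → u = 1 ∨ u = z
  ca : ∀ g : G, g ≠ 1 → g ≠ z → ∀ a b, g * a = a * g → g * b = b * g → a * b = b * a

/-- `S` looks like a quaternion group of order eight -/
structure QS {G : Type u} [Group G] (S : Subgroup G) : Prop where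
  card : Nat.card S = 8
  four : ∀ s ∈ S, s ^ 4 = 1
  na : ∃ i ∈ S, ∃ j ∈ S, i * j ≠ j * i

namespace CA

variable {G : Type u} [Group G] [Finite G] {z : G} (C : CA z)

include C

lemma pm {a b : G} (hab : a * b = b * a) (ha : a * a = z) (hb : b * b = z) : a = b ∨ a = z * b := by
  have h1 : (a * b) * (a * b) = 1 := by
    have : (a * b) * (a * b) = a * (b * a) * b := by group
    rw [this, ← hab]
    have : a * (a * b) * b = (a * a) * (b * b) := by group
    rw [this, ha, hb, C.zz]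
  rcases C.inv _ h1 with h | h
  · right
    have h2 : a = b⁻¹ := eq_inv_of_mul_eq_one_left h
    rw [h2, inv_eq_iff_mul_eq_one, C.zc b, ← mul_assoc, hb, C.zz]
  · left
    have h2 : a = z * b⁻¹ := by rw [← h]; group
    rw [h2, ← hb]; group

lemma fix {x a : G} (hx : Odd (orderOf x)) (h : x * a * x⁻¹ = a ∨ x * a * x⁻¹ = z * a) : x * a = a * x := by
  rcases h with h | h
  · rwa [mul_inv_eq_iff_eq_mul] at h
  · apply commute_of_sq hx
    rw [mul_inv_eq_iff_eq_mul] at h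
    have h1 : x * x * a = x * (x * a) := by group
    rw [h1, h]
    have h2 : x * (z * a * x) = (x * z) * a * x := by group
    rw [h2, ← C.zc, mul_assoc z x a, h]
    have h3 : z * (z * a * x) * x = (z * z) * (a * (x * x)) := by group
    rw [h3, C.zz, one_mul]

lemma one_of_odd {x : G} (hx : Odd (orderOf x)) (h : x = 1 ∨ x = z) : x = 1 := by
  rcases h with h | h
  · exact h
  · exfalso
    have h1 : orderOf x = 2 := by
      rw [h]
      exact orderOf_eq_prime (by rw [pow_two, C.zz]) C.z1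
    rw [h1] at hx
    exact absurd hx (by decide)

variable {S : Subgroup G} (Q : QS S)

include Q

lemma sq {s : G} (hs : s ∈ S) (h1 : s ≠ 1) (h2 : s ≠ z) : s * s = z := by
  have h3 : (s * s) * (s * s) = 1 := by
    have : (s * s) * (s * s) = s ^ 4 := by simp [pow_succ, mul_assoc]
    rw [this, Q.four s hs]
  rcases C.inv _ h3 with h | h
  · exfalso
    rcases C.inv _ h with h4 | h4
    · exact h1 h4
    · exact h2 h4
  · exact h

omit Q in
lemma ne_of_nc {i j : G} (h : i * j ≠ j * i) : i ≠ 1 ∧ i ≠ z ∧ j ≠ 1 ∧ j ≠ z := by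
  refine ⟨?_, ?_, ?_, ?_⟩
  · rintro rfl; exact h (by simp)
  · rintro rfl; exact h (C.zc j)
  · rintro rfl; exact h (by simp)
  · rintro rfl; exact h (C.zc i).symm

lemma z_mem : z ∈ S := by
  obtain ⟨i, hi, j, hj, h⟩ := Q.na
  obtain ⟨h1, h2, -, -⟩ := C.ne_of_nc h
  rw [← C.sq Q hi h1 h2]
  exact mul_mem hi hi

omit Q in
/-- odd order elements normalising an abelian subgroup of `S` -/
lemma cyc {T : Subgroup G} (Q : QS S) (hT : T ≤ S) (hab : ∀ a ∈ T, ∀ b ∈ T, a * b = b * a) {g : G} (hg : Odd (orderOf g))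
    (hn : ∀ s ∈ T, g * s * g⁻¹ ∈ T) : ∀ s ∈ T, g * s = s * g := by
  intro s hs
  by_cases h1 : s = 1
  · rw [h1]; simp
  by_cases h2 : s = z
  · rw [h2]; exact (C.zc g).symm
  apply C.fix hg
  have h3 := C.sq Q (hT hs) h1 h2
  apply C.pm (hab _ (hn s hs) _ hs) _ h3
  have : g * s * g⁻¹ * (g * s * g⁻¹) = g * (s * s) * g⁻¹ := by group
  rw [this, h3, ← C.zc, mul_inv_cancel_right]

end CA

lemma dvd_four {n : ℕ} (h : n ∣ 8) (h8 : n ≠ 8) : n ∣ 4 := by
  obtain ⟨k, hk, rfl⟩ := (Nat.dvd_prime_pow Nat.prime_two).1 (show n ∣ 2 ^ 3 from h)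
  have h1 : k ≠ 3 := by rintro rfl; exact h8 (by norm_num)
  exact pow_dvd_pow 2 (show k ≤ 2 by omega)

lemma comm_of_dvd_four {X : Type u} [Group X] (h : Nat.card X ∣ 4) (a b : X) : a * b = b * a := by
  obtain ⟨k, hk, h1⟩ := (Nat.dvd_prime_pow Nat.prime_two).1 (show Nat.card X ∣ 2 ^ 2 from h)
  have hfin : Finite X := Nat.finite_of_card_ne_zero (by rw [h1]; positivity)
  obtain rfl | rfl | rfl : k = 0 ∨ k = 1 ∨ k = 2 := by omega
  · have h2 := (Nat.card_eq_one_iff_unique.1 h1).1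
    exact Subsingleton.elim _ _
  · have : IsCyclic X := isCyclic_of_prime_card (p := 2) (by rw [h1]; norm_num)
    exact (IsCyclic.commGroup (α := X)).mul_comm a b
  · exact IsPGroup.commutative_of_card_eq_prime_sq (p := 2) h1 a b

/-- the normal complement -/
theorem exists_compl {G : Type u} [Group G] [Finite G] {z : G} (C : CA z) (S : Sylow 2 G) (Q : QS (S : Subgroup G))
    {K : Subgroup G} (hSK : (S : Subgroup G) ≤ K)
    (hK : ∀ y ∈ K, Odd (orderOf y) → (∀ s ∈ (S : Subgroup G), y * s * y⁻¹ ∈ (S : Subgroup G)) → y = 1) :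
    ∃ N : Subgroup G, N ≤ K ∧ (∀ k ∈ K, ∀ n ∈ N, k * n * k⁻¹ ∈ N) ∧ (∀ n ∈ N, Odd (orderOf n)) ∧
      ∀ k ∈ K, Odd (orderOf k) → k ∈ N := by
  have h1 := (S0071.result (S.subtype hSK)).2 (by
    intro T hT g hg hodd
    have hcoe : ((S.subtype hSK : Sylow 2 K) : Subgroup K) = (S : Subgroup G).subgroupOf K := Sylow.coe_subtype S hSK
    rw [hcoe] at hT
    have hodd' : Odd (orderOf (g : G)) := by
      rw [Subgroup.orderOf_coe]
      exact Nat.coprime_two_right.1 hodd
    rw [Subgroup.mem_centralizer_iff]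
    have hgn : ∀ s ∈ T, g * s * g⁻¹ ∈ T := fun s hs => (Subgroup.mem_normalizer_iff.1 hg s).1 hs
    set T' : Subgroup G := T.map K.subtype with hT'
    have hT'S : T' ≤ (S : Subgroup G) := by
      rintro _ ⟨t, ht, rfl⟩
      exact hT ht
    have hgn' : ∀ s ∈ T', (g : G) * s * (g : G)⁻¹ ∈ T' := by
      rintro _ ⟨t, ht, rfl⟩
      exact ⟨_, hgn t ht, rfl⟩
    have key : ∀ s ∈ T', (g : G) * s = s * g := by
      by_cases hTS : T' = (S : Subgroup G)
      · have h2 : (g : G) = 1 := hK g g.2 hodd' (by rw [← hTS]; exact hgn')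
        intro s _
        rw [h2]; simp
      · have hab : ∀ a ∈ T', ∀ b ∈ T', a * b = b * a := by
          have hcard : Nat.card T' ∣ 4 := by
            apply dvd_four
            · rw [← Q.card]; exact Subgroup.card_dvd_of_le hT'S
            · intro h5
              apply hTS
              exact Subgroup.eq_of_le_of_card_ge hT'S (by rw [Q.card, h5])
          intro a ha b hb
          exact congrArg Subtype.val (comm_of_dvd_four hcard ⟨a, ha⟩ ⟨b, hb⟩)
        exact C.cyc Q hT'S hab hodd' hgn'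
    intro t ht
    apply Subtype.ext
    exact (key t ⟨t, ht, rfl⟩).symm)
  obtain ⟨N, hN, hcomp⟩ := h1
  have hcardN : Odd (Nat.card N) := by
    have h2 := hcomp.card_mul
    have h3 := (S.subtype hSK).card_mul_index
    have h4 : Nat.card N = ((S.subtype hSK : Sylow 2 K) : Subgroup K).index := by
      have hpos : 0 < Nat.card ((S.subtype hSK : Sylow 2 K) : Subgroup K) := Nat.card_pos
      apply Nat.eq_of_mul_eq_mul_left hpos
      rw [h3, mul_comm, h2]
    rw [h4, ← Nat.not_even_iff_odd, even_iff_two_dvd]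
    exact (S.subtype hSK).not_dvd_index
  refine ⟨N.map K.subtype, ?_, ?_, ?_, ?_⟩
  · rintro _ ⟨n, -, rfl⟩; exact n.2
  · rintro k hk _ ⟨n, hn, rfl⟩
    exact ⟨⟨k, hk⟩ * n * ⟨k, hk⟩⁻¹, hN.conj_mem n hn ⟨k, hk⟩, rfl⟩
  · rintro _ ⟨n, hn, rfl⟩
    rw [Subgroup.coe_subtype, Subgroup.orderOf_coe]
    have h2 : orderOf n ∣ Nat.card N := by
      rw [← Subgroup.orderOf_mk n hn]
      exact orderOf_dvd_natCard _
    exact Odd.of_dvd_nat hcardN h2
  · intro k hk hodd
    refine ⟨⟨k, hk⟩, ?_, rfl⟩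
    have h2 : ((⟨k, hk⟩ : K) : K ⧸ N) = 1 := by
      have h3 : Nat.card (K ⧸ N) = 8 := by
        have h4 := hcomp.card_mul
        have h5 := N.card_mul_index
        have hpos : 0 < Nat.card N := Nat.card_pos
        have h6 : N.index = Nat.card ((S.subtype hSK : Sylow 2 K) : Subgroup K) := by
          apply Nat.eq_of_mul_eq_mul_left hpos
          rw [h5, h4]
        rw [← Subgroup.index_eq_card, h6, Sylow.coe_subtype, Nat.card_congr (Subgroup.subgroupOfEquivOfLe hSK).toEquiv,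
          Q.card]
      have h4 : orderOf ((⟨k, hk⟩ : K) : K ⧸ N) ∣ 8 := by rw [← h3]; exact orderOf_dvd_natCard _
      have h5 : orderOf ((⟨k, hk⟩ : K) : K ⧸ N) ∣ orderOf k := by
        have h6 := orderOf_map_dvd (QuotientGroup.mk' N) (⟨k, hk⟩ : K)
        rw [Subgroup.orderOf_mk] at h6
        exact h6
      have h6 : Nat.Coprime (orderOf k) (2 ^ 3) := Nat.Coprime.pow_right 3 (Nat.coprime_two_right.2 hodd)
      have h7 := Nat.dvd_gcd h5 (show _ ∣ 2 ^ 3 from h4)
      rw [h6] at h7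
      exact orderOf_eq_one_iff.1 (Nat.dvd_one.1 h7)
    exact (QuotientGroup.eq_one_iff _).1 h2

end Cfsg.Agent.H95
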