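import Cfsg.Agent.H95.CAQ8

set_option autoImplicit false
set_option linter.unusedSectionVars false

/-!
Overgroups of a quaternion Sylow `2`-subgroup which is its own normaliser, continued.
-/

namespace Cfsg.Agent.H95

universe u

variable {G : Type u} [Group G] [Finite G] {z : G} (C : CA z) {S : Subgroup G} (Q : QS S)

/-- the situation: an odd order subgroup normalised by `S` -/
structure NS {G : Type u} [Group G] (N S : Subgroup G) : Prop where
  nor : ∀ s ∈ S, ∀ n ∈ N, s * n * s⁻¹ ∈ N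
  odd : ∀ n ∈ N, Odd (orderOf n)

variable {N : Subgroup G} (hN : NS N S)

include C Q hN

/-- two noncommuting elements do not both have nontrivial centralisers in `N` -/
theorem not_both (h2 : IsPGroup 2 S) {i j : G} (hi : i ∈ S) (hj : j ∈ S) (hij : i * j ≠ j * i) (h1 : ∃ n ∈ N, n ≠ 1 ∧ n * i = i * n)
    (h3 : ∃ n ∈ N, n ≠ 1 ∧ n * j = j * n) : False := by
  obtain ⟨i1, iz, j1, jz⟩ := C.ne_of_nc hij
  have sqi := C.sq Q hi i1 iz
  have sqj := C.sq Q hj j1 jz
  let cen : G → Subgroup N := fun i => (Subgroup.centralizer ({i} : Set G)).subgroupOf N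
  have mcen : ∀ (i : G) (n : N), n ∈ cen i ↔ (n : G) * i = i * n := by
    intro i n
    show (n : G) ∈ Subgroup.centralizer ({i} : Set G) ↔ _
    rw [Subgroup.mem_centralizer_singleton_iff]
  have hne : ∀ n : N, n ≠ 1 → (n : G) ≠ 1 ∧ (n : G) ≠ z := by
    intro n hn
    have h4 : (n : G) ≠ 1 := fun h => hn (Subtype.ext h)
    exact ⟨h4, fun h => h4 (C.one_of_odd (hN.odd n n.2) (Or.inr h))⟩
  have csq : ∀ (g : N) (i : G), i * i = z → ((g : G)⁻¹ * i * g) * ((g : G)⁻¹ * i * g) = z := by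
    intro g i hi
    have : ((g : G)⁻¹ * i * g) * ((g : G)⁻¹ * i * g) = (g : G)⁻¹ * (i * i) * g := by group
    rw [this, hi, ← C.zc, mul_assoc, inv_mul_cancel, mul_one]
  have ti : ∀ i : G, i * i = z → ∀ g : N, ∀ a ∈ cen i, a ≠ 1 → g * a * g⁻¹ ∈ cen i → g ∈ cen i := by
    intro i sqi g a ha ha1 hg
    obtain ⟨a1, az⟩ := hne a ha1
    rw [mcen] at ha hg ⊢
    have h5 : (a : G) * ((g : G)⁻¹ * i * g) = ((g : G)⁻¹ * i * g) * a := by
      have h6 : (g : G) * a * (g : G)⁻¹ * i = i * ((g : G) * a * (g : G)⁻¹) := hg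
      calc (a : G) * ((g : G)⁻¹ * i * g) = (g : G)⁻¹ * ((g : G) * a * (g : G)⁻¹ * i) * g := by group
        _ = _ := by rw [h6]; group
    have h7 := C.ca a a1 az _ _ ha h5
    have h8 := C.pm h7 sqi (csq g i sqi)
    have h9 : (g : G)⁻¹ * i = i * (g : G)⁻¹ := by
      apply C.fix (x := (g : G)⁻¹) (by rw [orderOf_inv]; exact hN.odd g g.2)
      rw [inv_inv]
      rcases h8 with h8 | h8
      · left; exact h8.symm
      · right
        have h := congrArg (z * ·) h8
        rw [← mul_assoc, C.zz, one_mul] at h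
        exact h.symm
    rw [inv_mul_eq_iff_eq_mul, ← mul_assoc, eq_mul_inv_iff_mul_eq] at h9
    exact h9.symm
  obtain ⟨n, hn, hn1, hni⟩ := h1
  obtain ⟨m, hm, hm1, hmj⟩ := h3
  refine ti_count (A := cen i) (B := cen j) ⟨⟨n, hn⟩, (mcen _ _).2 hni, fun h => hn1 (congrArg Subtype.val h)⟩
    ⟨⟨m, hm⟩, (mcen _ _).2 hmj, fun h => hm1 (congrArg Subtype.val h)⟩ (ti i sqi) (ti j sqj) ?_
  intro g a ha ha1 hg
  obtain ⟨a1, az⟩ := hne a ha1
  rw [mcen] at ha hg
  have h5 : (a : G) * ((g : G)⁻¹ * j * g) = ((g : G)⁻¹ * j * g) * a := by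
    have h6 : (g : G) * a * (g : G)⁻¹ * j = j * ((g : G) * a * (g : G)⁻¹) := hg
    calc (a : G) * ((g : G)⁻¹ * j * g) = (g : G)⁻¹ * ((g : G) * a * (g : G)⁻¹ * j) * g := by group
      _ = _ := by rw [h6]; group
  have h7 := C.ca a a1 az _ _ ha h5
  have h8 := C.pm h7 sqi (csq g j sqj)
  -- `g⁻¹ j g j⁻¹ ∈ N ∩ S`
  have h9 : (g : G)⁻¹ * j * g * j⁻¹ ∈ N := by
    have : (g : G)⁻¹ * j * g * j⁻¹ = (g : G)⁻¹ * (j * g * j⁻¹) := by group
    rw [this]
    exact mul_mem (inv_mem g.2) (hN.nor j hj g g.2)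
  have hzS := C.z_mem Q
  have h10 : (g : G)⁻¹ * j * g ∈ S := by
    rcases h8 with h8 | h8
    · rw [← h8]; exact hi
    · have : (g : G)⁻¹ * j * g = z * i := by rw [h8, ← mul_assoc, C.zz, one_mul]
      rw [this]; exact mul_mem hzS hi
  have h11 := eq_one_of_odd_of_two (hN.odd _ h9) h2 (mul_mem h10 (inv_mem hj))
  have h12 : (g : G)⁻¹ * j * g = j := by rwa [mul_inv_eq_one] at h11
  rw [h12] at h8
  apply hij
  rcases h8 with h8 | h8
  · rw [h8]
  · rw [h8, C.zc j, mul_assoc, C.zc j, ← mul_assoc]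

/-- fixed point free elements invert `N` -/
theorem inverts {a : G} (ha : a ∈ S) (hna : a * a = z) (h : ∀ n ∈ N, n * a = a * n → n = 1) : ∀ n ∈ N, a * n * a⁻¹ = n⁻¹ := by
  let φ : N →* N :=
    { toFun := fun n => ⟨a * n * a⁻¹, hN.nor a ha n n.2⟩
      map_one' := Subtype.ext (by show a * 1 * a⁻¹ = 1; group)
      map_mul' := fun x y => Subtype.ext (by show a * (x * y) * a⁻¹ = a * x * a⁻¹ * (a * y * a⁻¹); group) }
  have h1 : MonoidHom.FixedPointFree φ := by
    intro n hn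
    apply Subtype.ext
    apply h n n.2
    have h2 : a * n * a⁻¹ = n := congrArg Subtype.val hn
    rw [mul_inv_eq_iff_eq_mul] at h2
    exact h2.symm
  have h2 : Function.Involutive φ := by
    intro n
    apply Subtype.ext
    show a * (a * n * a⁻¹) * a⁻¹ = n
    have : a * (a * n * a⁻¹) * a⁻¹ = (a * a) * n * (a * a)⁻¹ := by group
    rw [this, hna, C.zc, mul_inv_cancel_right]
  intro n hn
  have h3 := congrFun (h1.coe_eq_inv_of_involutive h2) ⟨n, hn⟩
  exact congrArg Subtype.val h3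

/-- a noncentral element of `S` centralises `N` -/
theorem exists_cent (h2 : IsPGroup 2 S) : ∃ i ∈ S, i ≠ 1 ∧ i ≠ z ∧ ∀ n ∈ N, n * i = i * n := by
  have key : ∀ a ∈ S, ∀ b ∈ S, a * b ≠ b * a → (∀ n ∈ N, n * a = a * n → n = 1) → (∀ n ∈ N, n * b = b * n → n = 1) →
      ∃ i ∈ S, i ≠ 1 ∧ i ≠ z ∧ ∀ n ∈ N, n * i = i * n := by
    intro a ha b hb hab h3 h4
    obtain ⟨a1, az, b1, bz⟩ := C.ne_of_nc hab
    have h5 := inverts C Q hN ha (C.sq Q ha a1 az) h3
    have h6 := inverts C Q hN hb (C.sq Q hb b1 bz) h4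
    have hnc : (a * b) * a ≠ a * (a * b) := by
      intro h
      apply hab
      rw [mul_assoc] at h
      exact (mul_left_cancel h).symm
    obtain ⟨c1, cz, -, -⟩ := C.ne_of_nc hnc
    refine ⟨a * b, mul_mem ha hb, c1, cz, fun n hn => ?_⟩
    have h7 : a * b * n * (a * b)⁻¹ = n := by
      have : a * b * n * (a * b)⁻¹ = a * (b * n * b⁻¹) * a⁻¹ := by group
      rw [this, h6 n hn, h5 _ (inv_mem hn), inv_inv]
    rw [mul_inv_eq_iff_eq_mul] at h7
    exact h7.symm
  obtain ⟨i, hi, j, hj, hij⟩ := Q.na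
  have hk1 : i * (i * j) ≠ (i * j) * i := by
    intro h
    apply hij
    rw [mul_assoc] at h
    exact mul_left_cancel h
  have hk2 : j * (i * j) ≠ (i * j) * j := by
    intro h
    apply hij
    rw [← mul_assoc] at h
    exact (mul_right_cancel h).symm
  have hkS := mul_mem hi hj
  by_cases ci : ∃ n ∈ N, n ≠ 1 ∧ n * i = i * n
  · -- `j` and `i j`
    apply key j hj (i * j) hkS hk2
    · intro n hn h
      by_contra h1
      exact not_both C Q hN h2 hi hj hij ci ⟨n, hn, h1, h⟩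
    · intro n hn h
      by_contra h1
      exact not_both C Q hN h2 hi hkS hk1 ci ⟨n, hn, h1, h⟩
  · by_cases cj : ∃ n ∈ N, n ≠ 1 ∧ n * j = j * n
    · apply key i hi (i * j) hkS hk1
      · intro n hn h
        by_contra h1
        exact ci ⟨n, hn, h1, h⟩
      · intro n hn h
        by_contra h1
        exact not_both C Q hN h2 hj hkS hk2 cj ⟨n, hn, h1, h⟩
    · apply key i hi j hj hij
      · intro n hn h
        by_contra h1
        exact ci ⟨n, hn, h1, h⟩
      · intro n hn h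
        by_contra h1
        exact cj ⟨n, hn, h1, h⟩

/-- an odd order element normalising `S` and moving the centraliser -/
theorem trivial_of_conj (h2 : IsPGroup 2 S) {x h : G} (hx : Odd (orderOf x)) (hxS : ∀ s ∈ S, x * s * x⁻¹ ∈ S)
    (hx1 : x ≠ 1) (hh : h ∈ N) (hxh : x * h * x⁻¹ ∈ N) : h = 1 := by
  obtain ⟨i, hi, i1, iz, hc⟩ := exists_cent C Q hN h2
  have sqi := C.sq Q hi i1 iz
  by_contra hh1
  have hhz : h ≠ z := fun e => hh1 (C.one_of_odd (hN.odd h hh) (Or.inr e))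
  have h3 := hc h hh
  have h4 := hc _ hxh
  have h5 : h * (x⁻¹ * i * x) = (x⁻¹ * i * x) * h := by
    calc h * (x⁻¹ * i * x) = x⁻¹ * (x * h * x⁻¹ * i) * x := by group
      _ = _ := by rw [h4]; group
  have h6 := C.ca h hh1 hhz _ _ h3 h5
  have hsq : (x⁻¹ * i * x) * (x⁻¹ * i * x) = z := by
    have : (x⁻¹ * i * x) * (x⁻¹ * i * x) = x⁻¹ * (i * i) * x := by group
    rw [this, sqi, ← C.zc, mul_assoc, inv_mul_cancel, mul_one]
  have h8 := C.pm h6 sqi hsq
  have h9 : x⁻¹ * i = i * x⁻¹ := by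
    apply C.fix (x := x⁻¹) (by rw [orderOf_inv]; exact hx)
    rw [inv_inv]
    rcases h8 with h8 | h8
    · left; exact h8.symm
    · right
      have h := congrArg (z * ·) h8
      rw [← mul_assoc, C.zz, one_mul] at h
      exact h.symm
  have hxi : x * i = i * x := by
    rw [inv_mul_eq_iff_eq_mul, ← mul_assoc, eq_mul_inv_iff_mul_eq] at h9
    exact h9.symm
  -- `x` centralises `S`
  obtain ⟨a, ha, b, hb, hab⟩ := Q.na
  obtain ⟨j, hj, hij⟩ : ∃ j ∈ S, i * j ≠ j * i := by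
    by_contra hcon
    push Not at hcon
    exact hab (C.ca i i1 iz a b (hcon a ha) (hcon b hb))
  have hji : j * i * j⁻¹ = i ∨ j * i * j⁻¹ = z * i := by
    right
    have hnc : (i * j) * i ≠ i * (i * j) := by
      intro h
      apply hij
      rw [mul_assoc] at h
      exact (mul_left_cancel h).symm
    obtain ⟨c1, cz, -, -⟩ := C.ne_of_nc hnc
    obtain ⟨-, -, j1, jz⟩ := C.ne_of_nc hij
    have e1 := C.sq Q (mul_mem hi hj) c1 cz
    have e2 := C.sq Q hj j1 jz
    -- `i j i j = z`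
    have e3 : j * i * j = i := by
      have e4 : i * (j * i * j) = i * i := by rw [sqi, ← e1]; group
      exact mul_left_cancel e4
    have e5 : j * i * j⁻¹ = (j * i * j) * (j * j)⁻¹ := by group
    rw [e5, e3, e2]
    have e6 : z⁻¹ = z := inv_eq_of_mul_eq_one_left C.zz
    rw [e6, C.zc]
  have hxj : x * j = j * x := by
    have hji' : j⁻¹ * i * j = i ∨ j⁻¹ * i * j = z * i := by
      rcases hji with h | h
      · left
        rw [mul_inv_eq_iff_eq_mul] at h
        rw [mul_assoc, ← h]; group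
      · right
        rw [mul_inv_eq_iff_eq_mul] at h
        have e1 : i * j = z * (j * i) := by rw [h, mul_assoc, ← mul_assoc z z, C.zz, one_mul]
        rw [mul_assoc, e1]
        have : j⁻¹ * (z * (j * i)) = j⁻¹ * (z * j) * i := by group
        rw [this, C.zc]; group
    -- `u = x j x⁻¹ j⁻¹`
    have hw : i * (j * x⁻¹ * j⁻¹) = (j * x⁻¹ * j⁻¹) * i := by
      have hxz : ∀ e, (x⁻¹ * e = e * x⁻¹) → j * e * j⁻¹ = i → i * (j * x⁻¹ * j⁻¹) = (j * x⁻¹ * j⁻¹) * i := by
        intro e he hje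
        rw [← hje]
        have e1 : j * e * j⁻¹ * (j * x⁻¹ * j⁻¹) = j * (e * x⁻¹) * j⁻¹ := by group
        have e2 : j * x⁻¹ * j⁻¹ * (j * e * j⁻¹) = j * (x⁻¹ * e) * j⁻¹ := by group
        rw [e1, e2, he]
      rcases hji' with h | h
      · apply hxz i h9
        rw [← h]
        have : j * (j⁻¹ * i * j) * j⁻¹ = i := by group
        rw [h] at this ⊢
        exact this
      · apply hxz (z * i)
        · rw [← mul_assoc, ← C.zc, mul_assoc, h9, ← mul_assoc]
        · rw [← h]; group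
    have hcm := C.ca i i1 iz _ _ hxi.symm hw
    have hodd : Odd (orderOf (x * (j * x⁻¹ * j⁻¹))) := by
      refine odd_of_pow hx ?_
      have hcm' : Commute x (j * x⁻¹ * j⁻¹) := hcm
      rw [hcm'.mul_pow, pow_orderOf_eq_one, one_mul, conj_pow, inv_pow, pow_orderOf_eq_one]
      group
    have hmem : x * (j * x⁻¹ * j⁻¹) ∈ S := by
      have : x * (j * x⁻¹ * j⁻¹) = (x * j * x⁻¹) * j⁻¹ := by group
      rw [this]
      exact mul_mem (hxS j hj) (inv_mem hj)
    have h10 := eq_one_of_odd_of_two hodd h2 hmem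
    have h11 : x * j * x⁻¹ * j⁻¹ = 1 := by rw [← h10]; group
    rw [mul_inv_eq_one, mul_inv_eq_iff_eq_mul] at h11
    exact h11
  -- hence `x` is central
  apply hx1
  apply C.one_of_odd hx
  by_contra hcon
  push Not at hcon
  exact hij (C.ca x hcon.1 hcon.2 i j hxi hxj)

end Cfsg.Agent.H95
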