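import Cfsg.Agent.H95.Tower
import Cfsg.Agent.Fus.QDWPSU
import Cfsg.Agent.Fus.QDW

set_option autoImplicit false
set_option linter.unusedSectionVars false

/-!
The base of the induction: groups of `2 × 2` matrices with quasi-dihedral or wreathed Sylow `2`-subgroups.
-/

namespace Cfsg.Agent.H95

open Matrix

universe u v

variable {F : Type u} [Field F]

/-- the centraliser of a nonscalar matrix of size two is commutative -/
lemma comm2 {A B C : Matrix (Fin 2) (Fin 2) F} (hA : A ∉ Set.range (Matrix.scalar (Fin 2))) (hB : A * B = B * A)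
    (hC : A * C = C * A) : B * C = C * B := by
  obtain ⟨a, b, c, d, rfl⟩ : ∃ a b c d, A = !![a, b; c, d] := ⟨_, _, _, _, Matrix.eta_fin_two A⟩
  obtain ⟨e, f, g, h, rfl⟩ : ∃ a b c d, B = !![a, b; c, d] := ⟨_, _, _, _, Matrix.eta_fin_two B⟩
  obtain ⟨e', f', g', h', rfl⟩ : ∃ a b c d, C = !![a, b; c, d] := ⟨_, _, _, _, Matrix.eta_fin_two C⟩
  have hne : b ≠ 0 ∨ c ≠ 0 ∨ a - d ≠ 0 := by
    by_contra hcon
    push Not at hcon
    obtain ⟨h1, h2, h3⟩ := hcon
    apply hA
    refine ⟨a, ?_⟩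
    have h4 : a = d := by linear_combination h3
    subst h4
    ext i j
    fin_cases i <;> fin_cases j <;> simp [Matrix.scalar_apply, h1, h2]
  rw [Matrix.mul_fin_two, Matrix.mul_fin_two] at hB hC
  have b1 : a * f + b * h = e * b + f * d := by simpa using congrFun (congrFun hB 0) 1
  have b2 : c * e + d * g = g * a + h * c := by simpa using congrFun (congrFun hB 1) 0
  have b3 : a * e + b * g = e * a + f * c := by simpa using congrFun (congrFun hB 0) 0
  have c1 : a * f' + b * h' = e' * b + f' * d := by simpa using congrFun (congrFun hC 0) 1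
  have c2 : c * e' + d * g' = g' * a + h' * c := by simpa using congrFun (congrFun hC 1) 0
  have c3 : a * e' + b * g' = e' * a + f' * c := by simpa using congrFun (congrFun hC 0) 0
  have g1 : f * g' = f' * g := by
    rcases hne with hn | hn | hn
    · apply mul_left_cancel₀ hn
      linear_combination f * c3 - f' * b3
    · apply mul_left_cancel₀ hn
      linear_combination g * c3 - g' * b3
    · apply mul_left_cancel₀ hn
      apply mul_left_cancel₀ hn
      linear_combination (a - d) * g' * b1 - (a - d) * g * c1 - b * (e - h) * c2 + b * (e' - h') * b2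
  have g2 : (e - h) * f' = (e' - h') * f := by
    rcases hne with hn | hn | hn
    · apply mul_left_cancel₀ hn
      linear_combination f * c1 - f' * b1
    · apply mul_left_cancel₀ hn
      linear_combination f' * b2 - f * c2 - (a - d) * g1
    · apply mul_left_cancel₀ hn
      linear_combination (e - h) * c1 - (e' - h') * b1
  have g3 : (e - h) * g' = (e' - h') * g := by
    rcases hne with hn | hn | hn
    · apply mul_left_cancel₀ hn
      linear_combination (a - d) * g1 - g' * b1 + g * c1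
    · apply mul_left_cancel₀ hn
      linear_combination g' * b2 - g * c2
    · apply mul_left_cancel₀ hn
      linear_combination (e' - h') * b2 - (e - h) * c2
  rw [Matrix.mul_fin_two, Matrix.mul_fin_two]
  ext i j
  fin_cases i <;> fin_cases j
  · show e * e' + f * g' = e' * e + f' * g
    linear_combination g1
  · show e * f' + f * h' = e' * f + f' * h
    linear_combination g2
  · show g * e' + h * g' = g' * e + h' * g
    linear_combination -g3
  · show g * f' + h * h' = g' * f + h' * h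
    linear_combination -g1

/-- the determinant of a nonscalar matrix with scalar square -/
lemma det_of_sq {A : Matrix (Fin 2) (Fin 2) F} (hA : A ∉ Set.range (Matrix.scalar (Fin 2))) {s : F}
    (h : A * A = Matrix.scalar (Fin 2) s) : A.det = -s := by
  obtain ⟨a, b, c, d, rfl⟩ : ∃ a b c d, A = !![a, b; c, d] := ⟨_, _, _, _, Matrix.eta_fin_two A⟩
  rw [Matrix.mul_fin_two] at h
  have h1 : a * a + b * c = s := by simpa [Matrix.scalar_apply] using congrFun (congrFun h 0) 0
  have h2 : a * b + b * d = 0 := by simpa [Matrix.scalar_apply] using congrFun (congrFun h 0) 1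
  have h3 : c * a + d * c = 0 := by simpa [Matrix.scalar_apply] using congrFun (congrFun h 1) 0
  have h4 : c * b + d * d = s := by simpa [Matrix.scalar_apply] using congrFun (congrFun h 1) 1
  have h5 : a + d = 0 := by
    by_contra hne
    apply hA
    have hb : b = 0 := by
      apply mul_left_cancel₀ hne; linear_combination h2
    have hc : c = 0 := by
      apply mul_left_cancel₀ hne; linear_combination h3
    have hd : a = d := by
      have : a - d = 0 := by
        apply mul_left_cancel₀ hne; linear_combination h1 - h4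
      linear_combination this
    refine ⟨a, ?_⟩
    subst hd
    ext i j
    fin_cases i <;> fin_cases j <;> simp [Matrix.scalar_apply, hb, hc]
  rw [Matrix.det_fin_two_of]
  linear_combination -h1 + a * h5

section pair

variable {S : Type v} [Group S] (ρ : S →* GL (Fin 2) F) (hρ : Function.Injective ρ)

lemma central_iff {g : GL (Fin 2) F} : g ∈ Subgroup.center (GL (Fin 2) F) ↔
    (g : Matrix (Fin 2) (Fin 2) F) ∈ Set.range (Matrix.scalar (Fin 2)) :=
  Matrix.GeneralLinearGroup.mem_center_iff_val_mem_range_scalar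

lemma comm_gl {g a b : GL (Fin 2) F} (hg : g ∉ Subgroup.center (GL (Fin 2) F)) (ha : g * a = a * g) (hb : g * b = b * g) :
    a * b = b * a := by
  rw [central_iff] at hg
  apply Units.ext
  exact comm2 hg (congrArg Units.val ha) (congrArg Units.val hb)

lemma eq_neg_one_of {g : GL (Fin 2) F} (hg : g ∈ Subgroup.center (GL (Fin 2) F)) (h : g * g = 1) (h1 : g ≠ 1) :
    g = -1 := by
  rw [central_iff] at hg
  obtain ⟨r, hr⟩ := hg
  have h2 : (g : Matrix (Fin 2) (Fin 2) F) * g = 1 := congrArg Units.val h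
  rw [← hr] at h2
  have h3 : r * r = 1 := by
    have := congrFun (congrFun h2 0) 0
    simpa [Matrix.scalar_apply] using this
  rcases mul_self_eq_one_iff.1 h3 with h4 | h4
  · exfalso; apply h1
    apply Units.ext
    rw [← hr, h4, map_one]; rfl
  · apply Units.ext
    rw [← hr, h4, map_neg, map_one]; rfl

lemma det_neg {g : GL (Fin 2) F} (hg : g ∉ Subgroup.center (GL (Fin 2) F)) (h : g * g = 1) :
    Matrix.GeneralLinearGroup.det g = -1 := by
  rw [central_iff] at hg
  have h2 : (g : Matrix (Fin 2) (Fin 2) F) * (g : Matrix (Fin 2) (Fin 2) F) = Matrix.scalar (Fin 2) 1 := by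
    rw [map_one]; exact congrArg Units.val h
  apply Units.ext
  exact det_of_sq hg h2

lemma det_one {g : GL (Fin 2) F} (hg : g ∉ Subgroup.center (GL (Fin 2) F)) (h : g * g = -1) :
    Matrix.GeneralLinearGroup.det g = 1 := by
  rw [central_iff] at hg
  have h2 : (g : Matrix (Fin 2) (Fin 2) F) * (g : Matrix (Fin 2) (Fin 2) F) = Matrix.scalar (Fin 2) (-1) := by
    rw [map_neg, map_one]; exact congrArg Units.val h
  apply Units.ext
  have := det_of_sq hg h2
  rw [neg_neg] at this
  exact this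

include hρ in
theorem qd_pair (hS : Cfsg.IsQuasiDihedral S) : ∃ g h : S, Matrix.GeneralLinearGroup.det (ρ g) = 1 ∧
    Matrix.GeneralLinearGroup.det (ρ h) = 1 ∧ g * h ≠ h * g ∧ ρ h * ρ h = -1 := by
  obtain ⟨n, hn, -, x, y, hx, hy, hxy⟩ := hS
  obtain ⟨m, rfl⟩ : ∃ m, n = m + 3 := ⟨n - 3, by omega⟩
  obtain ⟨M, hM⟩ : ∃ M, M = 2 ^ m := ⟨_, rfl⟩
  have hM1 : 1 ≤ M := by rw [hM]; exact Nat.one_le_two_pow
  have e1 : 2 ^ (m + 3 - 1) = 4 * M := by
    rw [hM, show m + 3 - 1 = m + 2 by omega, pow_add]; ring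
  have e2 : 2 ^ (m + 3) = 8 * M := by rw [hM, pow_add]; ring
  rw [e1] at hxy
  rw [e2] at hx
  have hyy : y * y = 1 := by rw [← pow_two, ← hy]; exact pow_orderOf_eq_one y
  have hyi : y⁻¹ = y := inv_eq_of_mul_eq_one_left hyy
  have hx8 : x ^ (8 * M) = 1 := by rw [← hx]; exact pow_orderOf_eq_one x
  -- noncommuting
  have hxyne : x * y ≠ y * x := by
    intro h
    have h1 : x = x ^ (4 * M - 1) := by
      rw [← hxy, ← h]; group
    have h2 : x ^ (4 * M - 2) = 1 := by
      have h3 : x * x ^ (4 * M - 2) = x * 1 := by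
        rw [← pow_succ', mul_one, show 4 * M - 2 + 1 = 4 * M - 1 by omega]; exact h1.symm
      exact mul_left_cancel h3
    have h3 := orderOf_dvd_of_pow_eq_one h2
    rw [hx] at h3
    have := Nat.le_of_dvd (by omega) h3
    omega
  have hρne : ρ x * ρ y ≠ ρ y * ρ x := by
    rw [← map_mul, ← map_mul]; exact fun h => hxyne (hρ h)
  -- the central involution
  have hu1 : x ^ (4 * M) ≠ 1 := by
    intro h
    have h3 := orderOf_dvd_of_pow_eq_one h
    rw [hx] at h3
    have := Nat.le_of_dvd (by omega) h3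
    omega
  have hyu : y * x ^ (4 * M) = x ^ (4 * M) * y := by
    have h1 : y * x ^ (4 * M) * y⁻¹ = x ^ (4 * M) := by
      rw [← conj_pow, hxy, ← pow_mul]
      have h2 : (4 * M - 1) * (4 * M) = 4 * M + 8 * M * (2 * M - 1) := by
        obtain ⟨t, rfl⟩ : ∃ t, M = t + 1 := ⟨M - 1, by omega⟩
        have h3 : 4 * (t + 1) - 1 = 4 * t + 3 := by omega
        have h4 : 2 * (t + 1) - 1 = 2 * t + 1 := by omega
        rw [h3, h4]; ring
      rw [h2, pow_add, pow_mul x (8 * M), hx8, one_pow, mul_one]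
    rwa [mul_inv_eq_iff_eq_mul] at h1
  have hucen : ρ (x ^ (4 * M)) ∈ Subgroup.center (GL (Fin 2) F) := by
    by_contra hc
    apply hρne
    refine comm_gl hc ?_ ?_
    · rw [← map_mul, ← map_mul, ← pow_succ, ← pow_succ']
    · rw [← map_mul, ← map_mul, hyu]
  have hneg : ρ (x ^ (4 * M)) = -1 := by
    refine eq_neg_one_of hucen ?_ fun h => hu1 (hρ (h.trans (map_one ρ).symm))
    rw [← map_mul, ← pow_add, show 4 * M + 4 * M = 8 * M by ring, hx8, map_one]
  -- `h = x y`
  have hh2 : (x * y) * (x * y) = x ^ (4 * M) := by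
    have h1 : (x * y) * (x * y) = x * (y * x * y⁻¹) * (y * y) := by group
    rw [h1, hxy, hyy, mul_one, ← pow_succ']
    congr 1; omega
  have hhc : ρ (x * y) ∉ Subgroup.center (GL (Fin 2) F) := by
    intro hc
    have h1 := Subgroup.mem_center_iff.1 hc (ρ x)
    rw [← map_mul, ← map_mul] at h1
    have h2 := hρ h1
    rw [← mul_assoc, mul_assoc x y x, mul_assoc x x y] at h2
    exact hxyne (mul_left_cancel h2)
  -- `det x ^ 2 = 1`
  have hd : Matrix.GeneralLinearGroup.det (ρ (x ^ 2)) = 1 := by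
    set δ := Matrix.GeneralLinearGroup.det (ρ x) with hδ
    have h1 : δ = δ ^ (4 * M - 1) := by
      have h2 := congrArg (fun s => Matrix.GeneralLinearGroup.det (ρ s)) hxy
      simp only [map_mul, map_inv, map_pow] at h2
      rw [mul_comm, inv_mul_cancel_left] at h2
      exact h2
    have h2 : δ ^ (4 * M - 2) = 1 := by
      have h3 : δ * δ ^ (4 * M - 2) = δ * 1 := by
        rw [← pow_succ', mul_one, show 4 * M - 2 + 1 = 4 * M - 1 by omega]; exact h1.symm
      exact mul_left_cancel h3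
    have h3 : δ ^ (8 * M) = 1 := by rw [hδ, ← map_pow, ← map_pow, hx8, map_one, map_one]
    have h4 : δ ^ 4 = 1 := by
      have h5 : 8 * M = 2 * (4 * M - 2) + 4 := by omega
      rw [h5, pow_add, mul_comm 2, pow_mul, h2, one_pow, one_mul] at h3
      exact h3
    rw [map_pow, map_pow]
    have h5 : 4 * M - 2 = 4 * (M - 1) + 2 := by omega
    rw [h5, pow_add, pow_mul, h4, one_pow, one_mul] at h2
    exact h2
  refine ⟨x ^ 2, x * y, hd, det_one hhc (by rw [← map_mul, hh2, hneg]), ?_, by rw [← map_mul, hh2, hneg]⟩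
  intro h
  -- `x ^ 4 = 1`
  have h1 : x ^ 2 * (x * y) = x * (x ^ 2) * y := by group
  have h2 : x * y * x ^ 2 = x * (y * x ^ 2 * y⁻¹) * y := by group
  rw [h1, h2, ← conj_pow, hxy] at h
  have h3 := mul_left_cancel (mul_right_cancel h)
  rw [← pow_mul] at h3
  have h4 : x ^ 2 * x ^ 2 = 1 := by
    nth_rewrite 2 [h3]
    rw [← pow_add, show 2 + (4 * M - 1) * 2 = 8 * M by omega, hx8]
  rw [← pow_add] at h4
  have h5 := orderOf_dvd_of_pow_eq_one h4
  rw [hx] at h5
  have := Nat.le_of_dvd (by omega) h5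
  omega

include hρ in
theorem wr_pair (hS : Cfsg.IsWreathed S) : ∃ g h : S, Matrix.GeneralLinearGroup.det (ρ g) = 1 ∧
    Matrix.GeneralLinearGroup.det (ρ h) = 1 ∧ g * h ≠ h * g ∧ ρ h * ρ h = -1 := by
  obtain ⟨n, hn, -, x, y, z, hx, hxy, hd, hz, hzx⟩ := hS
  obtain ⟨m, rfl⟩ : ∃ m, n = m + 2 := ⟨n - 2, by omega⟩
  obtain ⟨M, hM⟩ : ∃ M, M = 2 ^ m := ⟨_, rfl⟩
  have hM1 : 1 ≤ M := by rw [hM]; exact Nat.one_le_two_pow
  have e2 : 2 ^ (m + 2) = 4 * M := by rw [hM, pow_add]; ring
  rw [e2] at hx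
  have hzz : z * z = 1 := by rw [← pow_two, ← hz]; exact pow_orderOf_eq_one z
  have hx4 : x ^ (4 * M) = 1 := by rw [← hx]; exact pow_orderOf_eq_one x
  have hzy : z * y * z⁻¹ = x := by
    rw [← hzx]
    have : z * (z * x * z⁻¹) * z⁻¹ = (z * z) * x * (z * z)⁻¹ := by group
    rw [this, hzz]; group
  have hbot : ∀ s, s ∈ Subgroup.zpowers x → s ∈ Subgroup.zpowers y → s = 1 := by
    intro s h1 h2
    have h3 : s ∈ Subgroup.zpowers x ⊓ Subgroup.zpowers y := ⟨h1, h2⟩
    rw [hd] at h3
    exact Subgroup.mem_bot.1 h3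
  have hxy2 : y ^ (2 * M) = z * x ^ (2 * M) * z⁻¹ := by rw [← hzx, conj_pow]
  have hv1 : x ^ (2 * M) ≠ 1 := by
    intro h
    have h3 := orderOf_dvd_of_pow_eq_one h
    rw [hx] at h3
    have := Nat.le_of_dvd (by omega) h3
    omega
  have hv2 : x ^ (2 * M) * x ^ (2 * M) = 1 := by
    rw [← pow_add, show 2 * M + 2 * M = 4 * M by ring, hx4]
  have hvc : ρ (x ^ (2 * M)) ∉ Subgroup.center (GL (Fin 2) F) := by
    intro hc
    have h1 := Subgroup.mem_center_iff.1 hc (ρ z)
    rw [← map_mul, ← map_mul] at h1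
    have h2 := hρ h1
    apply hv1
    apply hbot _ (Subgroup.npow_mem_zpowers _ _)
    have h3 : x ^ (2 * M) = y ^ (2 * M) := by rw [hxy2, h2]; group
    rw [h3]
    exact Subgroup.npow_mem_zpowers _ _
  have hzx' : z * x ≠ x * z := by
    intro h
    have h1 : y = x := by rw [← hzx, h]; group
    have h2 : x = 1 := hbot x (Subgroup.mem_zpowers x) (by rw [h1]; exact Subgroup.mem_zpowers x)
    rw [h2, orderOf_one] at hx
    omega
  have hzc : ρ z ∉ Subgroup.center (GL (Fin 2) F) := by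
    intro hc
    have h1 := Subgroup.mem_center_iff.1 hc (ρ x)
    rw [← map_mul, ← map_mul] at h1
    exact hzx' (hρ h1).symm
  have hdz := det_neg hzc (by rw [← map_mul, hzz, map_one])
  have hdv := det_neg hvc (by rw [← map_mul, hv2, map_one])
  -- the central involution
  have hu : (z * x ^ (2 * M)) * (z * x ^ (2 * M)) = y ^ (2 * M) * x ^ (2 * M) := by
    rw [hxy2]
    have : z * x ^ (2 * M) * (z * x ^ (2 * M)) = z * x ^ (2 * M) * z⁻¹ * (z * z) * x ^ (2 * M) := by group
    rw [this, hzz, mul_one]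
  have hcom : Commute y x := hxy.symm
  have huc : ρ (y ^ (2 * M) * x ^ (2 * M)) ∈ Subgroup.center (GL (Fin 2) F) := by
    by_contra hc
    apply hzx'
    apply hρ
    rw [map_mul, map_mul]
    refine comm_gl hc ?_ ?_
    · rw [← map_mul, ← map_mul]
      congr 1
      have h1 : z * (y ^ (2 * M) * x ^ (2 * M)) = (z * y ^ (2 * M) * z⁻¹) * (z * x ^ (2 * M) * z⁻¹) * z := by group
      rw [h1, ← conj_pow, hzy, ← hxy2, (hcom.symm.pow_pow _ _).eq]
    · rw [← map_mul, ← map_mul]
      congr 1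
      exact ((hcom.pow_left _).mul_left ((Commute.refl x).pow_left _)).eq
  have hu1 : y ^ (2 * M) * x ^ (2 * M) ≠ 1 := by
    intro h
    apply hv1
    apply hbot _ (Subgroup.npow_mem_zpowers _ _)
    have h3 : x ^ (2 * M) = (y ^ (2 * M))⁻¹ := by rw [eq_inv_iff_mul_eq_one, (hcom.symm.pow_pow _ _).eq, h]
    rw [h3]
    exact inv_mem (Subgroup.npow_mem_zpowers _ _)
  have hu2 : (y ^ (2 * M) * x ^ (2 * M)) * (y ^ (2 * M) * x ^ (2 * M)) = 1 := by
    have hy4 : y ^ (2 * M) * y ^ (2 * M) = 1 := by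
      rw [hxy2]
      have : z * x ^ (2 * M) * z⁻¹ * (z * x ^ (2 * M) * z⁻¹) = z * (x ^ (2 * M) * x ^ (2 * M)) * z⁻¹ := by group
      rw [this, hv2]; group
    rw [(hcom.symm.pow_pow (2 * M) (2 * M)).mul_mul_mul_comm, hy4, hv2, mul_one]
  have hneg : ρ (y ^ (2 * M) * x ^ (2 * M)) = -1 :=
    eq_neg_one_of huc (by rw [← map_mul, hu2, map_one]) fun h => hu1 (hρ (h.trans (map_one ρ).symm))
  refine ⟨x * y⁻¹, z * x ^ (2 * M), ?_, ?_, ?_, by rw [← map_mul, hu, hneg]⟩
  · rw [← hzx]
    simp only [map_mul, map_inv]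
    rw [mul_comm (Matrix.GeneralLinearGroup.det (ρ z)), mul_inv_cancel_right, mul_inv_cancel]
  · rw [map_mul, map_mul, hdz, hdv, neg_mul_neg, one_mul]
  · intro h
    have h1 : z * x ^ (2 * M) * (x * y⁻¹) * (z * x ^ (2 * M))⁻¹ = x * y⁻¹ := by rw [← h]; group
    have h2 : x ^ (2 * M) * (x * y⁻¹) = (x * y⁻¹) * x ^ (2 * M) :=
      (((Commute.refl x).pow_left _).mul_right (hcom.symm.inv_right.pow_left _)).eq
    have h3 : z * x ^ (2 * M) * (x * y⁻¹) * (z * x ^ (2 * M))⁻¹ = z * x * z⁻¹ * (z * y * z⁻¹)⁻¹ := by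
      have : z * x ^ (2 * M) * (x * y⁻¹) * (z * x ^ (2 * M))⁻¹ =
          z * (x ^ (2 * M) * (x * y⁻¹)) * (x ^ (2 * M))⁻¹ * z⁻¹ := by group
      rw [this, h2]; group
    rw [h3, hzx, hzy] at h1
    -- `y x⁻¹ = x y⁻¹`
    have h4 : x ^ 2 = y ^ 2 := by
      rw [mul_inv_eq_iff_eq_mul] at h1
      have h5 : y * y = x * x := by
        nth_rewrite 1 [h1]
        have : x * y⁻¹ * x * y = x * (y⁻¹ * (x * y)) := by group
        rw [this, hxy]; group
      rw [pow_two, pow_two, h5]
    have h5 : x ^ 2 = 1 := hbot _ (Subgroup.npow_mem_zpowers _ _) (by rw [h4]; exact Subgroup.npow_mem_zpowers _ _)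
    have h6 := orderOf_dvd_of_pow_eq_one h5
    rw [hx] at h6
    have := Nat.le_of_dvd (by omega) h6
    omega

end pair

/-- an element of odd order normalising a `2`-group `S` with `Aut S` a `2`-group centralises `S` -/
lemma comm_of_aut {G : Type v} [Group G] [Finite G] {S : Subgroup G} (hA : IsPGroup 2 (MulAut S)) {x : G}
    (hx : Odd (orderOf x)) (hn : ∀ s ∈ S, x * s * x⁻¹ ∈ S) : ∀ s ∈ S, x * s = s * x := by
  have hn' := norm_inv hn
  let φ : MulAut S :=
    { toFun := fun s => ⟨x * s * x⁻¹, hn s s.2⟩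
      invFun := fun s => ⟨x⁻¹ * s * x, hn' s s.2⟩
      left_inv := fun s => Subtype.ext (by show x⁻¹ * (x * s * x⁻¹) * x = s; group)
      right_inv := fun s => Subtype.ext (by show x * (x⁻¹ * s * x) * x⁻¹ = s; group)
      map_mul' := fun s t => Subtype.ext (by
        show x * (s * t) * x⁻¹ = x * s * x⁻¹ * (x * t * x⁻¹); group) }
  have hφ : ∀ k : ℕ, ∀ s : S, (((φ ^ k) s : S) : G) = x ^ k * s * (x ^ k)⁻¹ := by
    intro k
    induction k with
    | zero => intro s; simp
    | succ k ih =>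
      intro s
      rw [pow_succ', MulAut.mul_apply]
      show x * ((φ ^ k) s : S) * x⁻¹ = _
      rw [ih, pow_succ']; group
  have h1 : φ ^ orderOf x = 1 := by
    ext s
    rw [hφ, pow_orderOf_eq_one]; simp
  obtain ⟨k, hk⟩ := hA φ
  have h2 : φ = 1 := by
    have h3 := orderOf_dvd_of_pow_eq_one h1
    have h4 := orderOf_dvd_of_pow_eq_one hk
    have h5 : Nat.Coprime (orderOf x) (2 ^ k) := (Nat.Coprime.pow_right k (Nat.coprime_two_right.2 hx))
    have h6 := Nat.dvd_gcd h3 h4
    rw [h5] at h6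
    exact orderOf_eq_one_iff.1 (Nat.dvd_one.1 h6)
  intro s hs
  have h3 := hφ 1 ⟨s, hs⟩
  rw [pow_one, pow_one, h2] at h3
  have h4 : s = x * s * x⁻¹ := h3
  rw [eq_mul_inv_iff_mul_eq] at h4
  exact h4.symm

section base

variable {Γ : Type v} [Group Γ] [Finite Γ] (ρ : Γ →* GL (Fin 2) F) (hρ : Function.Injective ρ)

include hρ in
/-- the base of the induction -/
theorem tow_base (hS : ∀ S : Sylow 2 Γ, Cfsg.IsQuasiDihedral (S : Subgroup Γ) ∨ Cfsg.IsWreathed (S : Subgroup Γ))
    (h2 : (2 : F) ≠ 0) {z : Γ} (hz : ρ z = -1) :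
    Tow ((Matrix.GeneralLinearGroup.det).comp ρ) ((Subgroup.center (GL (Fin 2) F)).comap ρ) z := by
  set det : Γ →* Fˣ := (Matrix.GeneralLinearGroup.det).comp ρ with hdet
  have hpair : ∀ S : Sylow 2 Γ, ∃ g ∈ (S : Subgroup Γ), ∃ h ∈ (S : Subgroup Γ), det g = 1 ∧ det h = 1 ∧
      ρ g * ρ h ≠ ρ h * ρ g ∧ h * h = z := by
    intro S
    have hρS : Function.Injective (ρ.comp (S : Subgroup Γ).subtype) := hρ.comp Subtype.coe_injective
    obtain ⟨g, h, h1, h2, h3, h4⟩ := (hS S).elim (qd_pair _ hρS) (wr_pair _ hρS)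
    refine ⟨g, g.2, h, h.2, h1, h2, fun h5 => h3 (hρS ?_), hρ ?_⟩
    · rw [map_mul, map_mul]; exact h5
    · rw [hz, map_mul]; exact h4
  have hcen : ∀ a b c : Γ, ρ a * ρ b ≠ ρ b * ρ a → c * a = a * c → c * b = b * c →
      c ∈ (Subgroup.center (GL (Fin 2) F)).comap ρ := by
    intro a b c hab ha hb
    rw [Subgroup.mem_comap]
    by_contra hc
    exact hab (comm_gl hc (by rw [← map_mul, ← map_mul, ha]) (by rw [← map_mul, ← map_mul, hb]))
  obtain ⟨S⟩ : Nonempty (Sylow 2 Γ) := inferInstance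
  have hzc : ρ z ∈ Subgroup.center (GL (Fin 2) F) := by
    rw [central_iff, hz]
    exact ⟨-1, by rw [map_neg, map_one]; rfl⟩
  refine ⟨?_, hzc, ?_, ?_, ?_, ?_, ?_, ?_, ?_⟩
  · intro c hc
    rw [Subgroup.mem_center_iff]
    intro g
    apply hρ
    rw [map_mul, map_mul]
    exact Subgroup.mem_center_iff.1 hc (ρ g)
  · apply hρ
    rw [map_mul, hz, map_one, neg_mul_neg, one_mul]
  · rintro rfl
    rw [map_one] at hz
    have h3 : ((1 : GL (Fin 2) F) : Matrix (Fin 2) (Fin 2) F) 0 0 = ((-1 : GL (Fin 2) F) : Matrix (Fin 2) (Fin 2) F) 0 0 := by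
      rw [← hz]
    rw [Units.val_neg, Units.val_one, Matrix.neg_apply, Matrix.one_apply_eq] at h3
    apply h2
    linear_combination h3
  · show Matrix.GeneralLinearGroup.det (ρ z) = 1
    rw [hz]
    apply Units.ext
    show Matrix.det (-1 : Matrix (Fin 2) (Fin 2) F) = 1
    rw [Matrix.det_neg, Matrix.det_one]; simp
  · intro u hu huu
    by_cases h1 : u = 1
    · exact Or.inl h1
    · right
      apply hρ
      rw [hz]
      exact eq_neg_one_of hu (by rw [← map_mul, huu, map_one]) fun h => h1 (hρ (h.trans (map_one ρ).symm))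
  · intro P hP c hc
    obtain ⟨g, -, hg⟩ := hP.conj (sylIn_inf S det.ker)
    obtain ⟨a, ha, b, hb, da, db, hne, -⟩ := hpair S
    have h1 : g * c * g⁻¹ ∈ (Subgroup.center (GL (Fin 2) F)).comap ρ := by
      have key : ∀ s, s ∈ (S : Subgroup Γ) → det s = 1 → (g * c * g⁻¹) * s = s * (g * c * g⁻¹) := by
        intro s hs hd
        have h3 := hc _ ((hg s).1 ⟨hs, hd⟩)
        have e1 : g * c * g⁻¹ * s = g * (c * (g⁻¹ * s * g)) * g⁻¹ := by group
        have e2 : s * (g * c * g⁻¹) = g * ((g⁻¹ * s * g) * c) * g⁻¹ := by group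
        rw [e1, e2, h3]
      exact hcen a b _ hne (key a ha da) (key b hb db)
    rw [Subgroup.mem_comap] at h1 ⊢
    have h3 := Subgroup.Normal.conj_mem (inferInstance : (Subgroup.center (GL (Fin 2) F)).Normal) _ h1 (ρ g)⁻¹
    rw [map_mul, map_mul, map_inv] at h3
    have e : (ρ g)⁻¹ * (ρ g * ρ c * (ρ g)⁻¹) * (ρ g)⁻¹⁻¹ = ρ c := by group
    rwa [e] at h3
  · intro S x hx hn
    have hA : IsPGroup 2 (MulAut (S : Subgroup Γ)) := by
      rcases hS S with h | h
      · exact S3116.result S.isPGroup' (Or.inr h)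
      · obtain ⟨m, -, ⟨d⟩⟩ := H20.WData.exists_of_isWreathed h
        exact Fus.wr_aut_isPGroup d
    obtain ⟨a, ha, b, hb, -, -, hne, -⟩ := hpair S
    have h1 := comm_of_aut hA hx hn
    exact hcen a b x hne (h1 a ha) (h1 b hb)
  · obtain ⟨a, ha, b, hb, -, db, -, h⟩ := hpair S
    exact ⟨b, db, h⟩

end base

end Cfsg.Agent.H95
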