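import Mathlib

set_option autoImplicit false
set_option linter.unusedSectionVars false

/-!
Two-adic valuations of `Q ^ i - 1`.
-/

namespace Cfsg.Agent.H95

/-- valuation of `Q ^ i - 1` -/
def wv (Q : ℤ) (i : ℕ) : ℕ := ((Q ^ i - 1).natAbs).factorization 2

/-- sum of the valuations -/
def VV (Q : ℤ) (n : ℕ) : ℕ := ∑ i ∈ Finset.range n, wv Q (i + 1)

lemma pow_sub_one_ne {Q : ℤ} (h0 : Q ≠ 1) (h1 : Q ≠ -1) {i : ℕ} (hi : i ≠ 0) : Q ^ i - 1 ≠ 0 := by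
  intro h
  have h2 : Q ^ i = 1 := by linarith
  have h3 : Q.natAbs ^ i = 1 := by rw [← Int.natAbs_pow, h2]; rfl
  have h4 := (Nat.pow_eq_one.1 h3).resolve_right hi
  rcases Int.natAbs_eq Q with h5 | h5 <;> rw [h4] at h5 <;> simp_all

lemma dvd_iff_le {a : ℤ} (ha : a ≠ 0) (t : ℕ) : (2 : ℤ) ^ t ∣ a ↔ t ≤ (a.natAbs).factorization 2 := by
  rw [← Nat.prime_two.pow_dvd_iff_le_factorization (Int.natAbs_ne_zero.2 ha), ← Int.natCast_dvd_natCast]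
  push_cast
  rw [dvd_abs]

lemma odd_sum {Q : ℤ} (hQ : Odd Q) (i : ℕ) : Odd (∑ j ∈ Finset.range (2 * i + 1), Q ^ j) := by
  induction i with
  | zero => simp
  | succ i ih =>
    rw [show 2 * (i + 1) + 1 = 2 * i + 1 + 1 + 1 by ring, Finset.sum_range_succ, Finset.sum_range_succ]
    exact (ih.add_odd hQ.pow).add_odd hQ.pow

lemma dvd_B (k : ℕ) : ∀ Q : ℤ, Odd Q → ∀ i, 1 ≤ i → i < 2 ^ k → ∀ t, (2 : ℤ) ^ t ∣ Q ^ i - 1 →
    (2 : ℤ) ^ (t + 1) ∣ Q ^ 2 ^ k - 1 := by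
  induction k with
  | zero => intro Q _ i h1 h2; simp at h2; omega
  | succ k ih =>
    intro Q hQ i h1 h2 t ht
    rcases Nat.even_or_odd' i with ⟨i', rfl | rfl⟩
    · have h3 := ih (Q ^ 2) hQ.pow i' (by omega) (by rw [pow_succ] at h2; omega) t (by rwa [← pow_mul])
      rwa [← pow_mul, ← pow_succ'] at h3
    · have h3 : Q ^ (2 * i' + 1) - 1 = (∑ j ∈ Finset.range (2 * i' + 1), Q ^ j) * (Q - 1) := (geom_sum_mul Q _).symm
      have h4 : (2 : ℤ) ^ t ∣ Q - 1 := by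
        rw [h3] at ht
        have h5 : IsCoprime ((2 : ℤ) ^ t) (∑ j ∈ Finset.range (2 * i' + 1), Q ^ j) := by
          apply IsCoprime.pow_left
          obtain ⟨m, hm⟩ := odd_sum hQ i'
          rw [hm]
          exact ⟨-m, 1, by ring⟩
        exact h5.dvd_of_dvd_mul_left ht
      have h5 : (2 : ℤ) ^ (t + 1) ∣ Q ^ 2 - 1 := by
        have h6 : (2 : ℤ) ∣ Q + 1 := by
          obtain ⟨m, hm⟩ := hQ
          exact ⟨m + 1, by rw [hm]; ring⟩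
        have h7 : Q ^ 2 - 1 = (Q - 1) * (Q + 1) := by ring
        rw [h7, pow_succ]
        exact mul_dvd_mul h4 h6
      have h8 : Q ^ 2 - 1 ∣ Q ^ 2 ^ (k + 1) - 1 := by
        have := sub_dvd_pow_sub_pow (Q ^ 2) 1 (2 ^ k)
        rwa [one_pow, ← pow_mul, ← pow_succ'] at this
      exact h5.trans h8

lemma dvd_A {Q : ℤ} (hQ : Odd Q) {k i : ℕ} (h1 : 1 ≤ i) (h2 : i < 2 ^ k) (t : ℕ) :
    (2 : ℤ) ^ t ∣ Q ^ (2 ^ k + i) - 1 ↔ (2 : ℤ) ^ t ∣ Q ^ i - 1 := by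
  have e : Q ^ (2 ^ k + i) - 1 = Q ^ i * (Q ^ 2 ^ k - 1) + (Q ^ i - 1) := by rw [pow_add]; ring
  constructor
  · induction t with
    | zero => intro _; simp
    | succ t ih =>
      intro h
      have h3 := ih ((pow_dvd_pow 2 (Nat.le_succ t)).trans h)
      have h4 := dvd_B k Q hQ i h1 h2 t h3
      rw [e] at h
      exact (dvd_add_right (h4.mul_left _)).1 h
  · intro h
    have h4 := dvd_B k Q hQ i h1 h2 t h
    rw [e]
    exact dvd_add (((pow_dvd_pow 2 (Nat.le_succ t)).trans h4).mul_left _) h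

lemma wv_add {Q : ℤ} (hQ : Odd Q) (h0 : Q ≠ 1) (h0' : Q ≠ -1) {k i : ℕ} (h1 : 1 ≤ i) (h2 : i < 2 ^ k) :
    wv Q (2 ^ k + i) = wv Q i := by
  have n1 : Q ^ (2 ^ k + i) - 1 ≠ 0 := pow_sub_one_ne h0 h0' (by omega)
  have n2 : Q ^ i - 1 ≠ 0 := pow_sub_one_ne h0 h0' (by omega)
  apply le_antisymm
  · unfold wv
    rw [← dvd_iff_le n2, ← dvd_A hQ h1 h2, dvd_iff_le n1]
  · unfold wv
    rw [← dvd_iff_le n1, dvd_A hQ h1 h2, dvd_iff_le n2]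

lemma wv_double {Q : ℤ} (hQ : Odd Q) (h0 : Q ≠ 1) (h0' : Q ≠ -1) {k : ℕ} (hk : 1 ≤ k) :
    wv Q (2 ^ k + 2 ^ k) = wv Q (2 ^ k) + 1 := by
  have n1 : Q ^ (2 ^ k) - 1 ≠ 0 := pow_sub_one_ne h0 h0' (by positivity)
  obtain ⟨k, rfl⟩ : ∃ k', k = k' + 1 := ⟨k - 1, by omega⟩
  obtain ⟨m, hm⟩ := hQ.pow (n := 2 ^ k)
  have h1 : Q ^ 2 ^ (k + 1) + 1 = 2 * (2 * (m * m + m) + 1) := by
    rw [pow_succ 2 k, pow_mul, hm]; ring
  have e : Q ^ (2 ^ (k + 1) + 2 ^ (k + 1)) - 1 = (Q ^ 2 ^ (k + 1) - 1) * (Q ^ 2 ^ (k + 1) + 1) := by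
    rw [pow_add]; ring
  have n2 : (Q ^ 2 ^ (k + 1) + 1).natAbs ≠ 0 := by rw [h1]; omega
  unfold wv
  rw [e, Int.natAbs_mul, Nat.factorization_mul (Int.natAbs_ne_zero.2 n1) n2, Finsupp.add_apply]
  congr 1
  rw [h1, Int.natAbs_mul]
  have h3 : Odd (2 * (m * m + m) + 1).natAbs := Int.natAbs_odd.2 ⟨_, rfl⟩
  have h4 : (2 * (m * m + m) + 1).natAbs ≠ 0 := by omega
  rw [show (2 : ℤ).natAbs = 2 from rfl, Nat.factorization_mul (by norm_num) h4, Finsupp.add_apply,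
    Nat.prime_two.factorization_self, Nat.factorization_eq_zero_of_not_dvd (by
      rw [← even_iff_two_dvd, Nat.not_even_iff_odd]; exact h3)]

theorem VV_double {Q : ℤ} (hQ : Odd Q) (h0 : Q ≠ 1) (h0' : Q ≠ -1) {k : ℕ} (hk : 1 ≤ k) :
    VV Q (2 ^ k + 2 ^ k) = 2 * VV Q (2 ^ k) + 1 := by
  unfold VV
  rw [Finset.sum_range_add, two_mul, add_assoc]
  congr 1
  obtain ⟨n, hn⟩ : ∃ n, 2 ^ k = n + 1 := ⟨2 ^ k - 1, by have := Nat.one_le_two_pow (n := k); omega⟩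
  have h1 : ∀ i ∈ Finset.range n, wv Q (2 ^ k + i + 1) = wv Q (i + 1) := by
    intro i hi
    rw [Finset.mem_range] at hi
    rw [add_assoc]
    exact wv_add hQ h0 h0' (by omega) (by omega)
  have h2 : ∑ x ∈ Finset.range (2 ^ k), wv Q (2 ^ k + x + 1) =
      ∑ x ∈ Finset.range n, wv Q (x + 1) + wv Q (2 ^ k + 2 ^ k) := by
    have h3 : Finset.range (2 ^ k) = Finset.range (n + 1) := by rw [hn]
    rw [h3, Finset.sum_range_succ, Finset.sum_congr rfl h1, show 2 ^ k + n + 1 = 2 ^ k + 2 ^ k by omega]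
  have h4 : ∑ x ∈ Finset.range (2 ^ k), wv Q (x + 1) = ∑ x ∈ Finset.range n, wv Q (x + 1) + wv Q (2 ^ k) := by
    have h3 : Finset.range (2 ^ k) = Finset.range (n + 1) := by rw [hn]
    rw [h3, Finset.sum_range_succ, show n + 1 = 2 ^ k from hn.symm]
  rw [h2, h4, wv_double hQ h0 h0' hk]
  ring

end Cfsg.Agent.H95
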