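import Cfsg.Agent.H95.GamStep
import Cfsg.Agent.H95.Val
import Cfsg.Agent.H95.TowBase
import Cfsg.Agent.Uni.SU

set_option autoImplicit false
set_option linter.unusedSectionVars false

/-!
Two-parts of the orders of the general linear and unitary groups.
-/

namespace Cfsg.Agent.H95

open Matrix

universe u v

variable {F : Type u} [Field F] {ι κ : Type} [Fintype ι] [DecidableEq ι] [Fintype κ] [DecidableEq κ]

/-- reindexing -/
noncomputable def rx (e : ι ≃ κ) : GL ι F ≃* GL κ F :=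
  Units.mapEquiv (Matrix.reindexAlgEquiv F F e).toMulEquiv

lemma coe_rx (e : ι ≃ κ) (g : GL ι F) : ((rx e g : GL κ F) : Matrix κ κ F) =
    (g : Matrix ι ι F).submatrix e.symm e.symm := rfl

lemma det_rx (e : ι ≃ κ) (g : GL ι F) : Matrix.GeneralLinearGroup.det (rx e g) = Matrix.GeneralLinearGroup.det g := by
  apply Units.ext
  show Matrix.det ((g : Matrix ι ι F).submatrix e.symm e.symm) = _
  rw [Matrix.det_submatrix_equiv_self]; rfl

variable {P : Prop} {σ : F →+* F}

lemma rx_mem (e : ι ≃ κ) (g : GL ι F) : rx e g ∈ Gam P σ κ ↔ g ∈ Gam P σ ι := by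
  rw [mem_Gam, mem_Gam, coe_rx]
  have h : ((g : Matrix ι ι F).submatrix e.symm e.symm)ᵀ * ((g : Matrix ι ι F).submatrix e.symm e.symm).map σ =
      ((g : Matrix ι ι F)ᵀ * (g : Matrix ι ι F).map σ).submatrix e.symm e.symm := by
    rw [Matrix.transpose_submatrix, ← Matrix.submatrix_map, Matrix.submatrix_mul_equiv]
  rw [h]
  have h2 : ∀ M : Matrix ι ι F, M.submatrix e.symm e.symm = 1 ↔ M = 1 := by
    intro M
    constructor
    · intro hM
      have := congrArg (fun N : Matrix κ κ F => N.submatrix e e) hM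
      simpa using this
    · rintro rfl; simp
  rw [h2]

variable (P σ) in
/-- reindexing of the groups -/
noncomputable def rxG (e : ι ≃ κ) : Gam P σ ι ≃ Gam P σ κ where
  toFun g := ⟨rx e g, (rx_mem e _).2 g.2⟩
  invFun g := ⟨(rx e).symm g, (rx_mem e _).1 (by rw [MulEquiv.apply_symm_apply]; exact g.2)⟩
  left_inv g := Subtype.ext ((rx e).symm_apply_apply _)
  right_inv g := Subtype.ext ((rx e).apply_symm_apply _)

variable [Fintype F]

lemma fact_prod {n : ℕ} {f : ℕ → ℕ} (hf : ∀ i ∈ Finset.range n, f i ≠ 0) :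
    (∏ i ∈ Finset.range n, f i).factorization 2 = ∑ i ∈ Finset.range n, (f i).factorization 2 := by
  rw [Nat.factorization_prod hf]
  simp

/-- general linear groups -/
theorem card_gl (σ : F →+* F) (hodd : Odd (Fintype.card F)) : (Nat.card (Gam False σ ι)).factorization 2 =
    VV (Fintype.card F : ℤ) (Fintype.card ι) := by
  obtain ⟨n, hn⟩ : ∃ n, Fintype.card ι = n := ⟨_, rfl⟩
  rw [Nat.card_congr (rxG False σ (Fintype.equivFinOfCardEq hn))]
  have htop : Gam False σ (Fin n) = ⊤ := by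
    rw [eq_top_iff]; intro g _ h; exact h.elim
  rw [htop, Subgroup.card_top, Matrix.card_GL_field, hn]
  set q := Fintype.card F with hq
  have hq1 : 1 < q := Fintype.one_lt_card
  rw [Fin.prod_univ_eq_prod_range (fun i => q ^ n - q ^ i) n]
  have hne : ∀ i ∈ Finset.range n, q ^ n - q ^ i ≠ 0 := by
    intro i hi
    rw [Finset.mem_range] at hi
    have := Nat.pow_lt_pow_right hq1 hi
    omega
  rw [fact_prod hne]
  unfold VV
  rw [← Finset.sum_range_reflect (fun i => wv (q : ℤ) (i + 1))]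
  refine Finset.sum_congr rfl fun i hi => ?_
  rw [Finset.mem_range] at hi
  have e : q ^ n - q ^ i = q ^ i * (q ^ (n - i) - 1) := by
    rw [Nat.mul_sub, mul_one, ← pow_add]
    congr 2; omega
  have h1 : (q ^ i).factorization 2 = 0 :=
    Nat.factorization_eq_zero_of_not_dvd (by rw [← even_iff_two_dvd, Nat.not_even_iff_odd]; exact hodd.pow)
  have h2 : q ^ (n - i) - 1 ≠ 0 := by
    have := Nat.one_lt_pow (show n - i ≠ 0 by omega) hq1
    omega
  have h3 : wv q (n - 1 - i + 1) = (q ^ (n - i) - 1).factorization 2 := by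
    unfold wv
    rw [show n - 1 - i + 1 = n - i by omega]
    congr 2
    have : ((q : ℤ) ^ (n - i) - 1) = ((q ^ (n - i) - 1 : ℕ) : ℤ) := by
      rw [Nat.cast_sub (Nat.one_le_pow _ _ (by omega))]; push_cast; ring
    rw [this, Int.natAbs_natCast]
  rw [h3, e, Nat.factorization_mul (by positivity) h2, Finsupp.add_apply, h1, zero_add]

/-- unitary groups -/
theorem card_gu {q : ℕ} (hF : Fintype.card F = q ^ 2) (hodd : Odd q) :
    (Nat.card (Gam True (Uni.conjHom hF) ι)).factorization 2 = VV (-(q : ℤ)) (Fintype.card ι) := by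
  obtain ⟨n, hn⟩ : ∃ n, Fintype.card ι = n := ⟨_, rfl⟩
  rw [Nat.card_congr (rxG True (Uni.conjHom hF) (Fintype.equivFinOfCardEq hn))]
  have hGU : Gam True (Uni.conjHom hF) (Fin n) = Cfsg.GU n F q := by
    ext g
    show (True → _) ↔ Uni.Pres q (g : Matrix (Fin n) (Fin n) F)
    rw [Uni.pres_iff_transpose_mul hF]
    simp
  rw [hGU, Uni.card_GU hF, hn]
  have hq1 : 2 ≤ q := Uni.two_le_q hF
  have hne : ∀ i ∈ Finset.range n, (if Even i then q ^ (i + 1) + 1 else q ^ (i + 1) - 1) ≠ 0 := by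
    intro i hi
    have := Nat.one_lt_pow (show i + 1 ≠ 0 by omega) hq1
    split_ifs <;> omega
  rw [Nat.factorization_mul (by positivity) (Finset.prod_ne_zero_iff.2 hne), Finsupp.add_apply,
    Nat.factorization_eq_zero_of_not_dvd (by rw [← even_iff_two_dvd, Nat.not_even_iff_odd]; exact hodd.pow), zero_add,
    fact_prod hne]
  unfold VV
  refine Finset.sum_congr rfl fun i hi => ?_
  unfold wv
  congr 2
  have hp := Nat.one_lt_pow (show i + 1 ≠ 0 by omega) hq1
  by_cases h : Even i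
  · rw [if_pos h]
    have h1 : Odd (i + 1) := h.add_one
    rw [h1.neg_pow]
    have : (-(q : ℤ) ^ (i + 1) - 1) = -((q ^ (i + 1) + 1 : ℕ) : ℤ) := by push_cast; ring
    rw [this, Int.natAbs_neg, Int.natAbs_natCast]
  · rw [if_neg h]
    have h1 : Even (i + 1) := (Nat.not_even_iff_odd.1 h).add_one
    rw [h1.neg_pow]
    have : ((q : ℤ) ^ (i + 1) - 1) = ((q ^ (i + 1) - 1 : ℕ) : ℤ) := by
      rw [Nat.cast_sub (by omega)]; push_cast; ring
    rw [this, Int.natAbs_natCast]

/-- the counting hypothesis -/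
def Cnt (P : Prop) (σ : F →+* F) : Prop := ∃ Q : ℤ, Odd Q ∧ Q ≠ 1 ∧ Q ≠ -1 ∧
  ∀ (ι : Type) [Fintype ι] [DecidableEq ι], (Nat.card (Gam P σ ι)).factorization 2 = VV Q (Fintype.card ι)

lemma cnt_gl (σ : F →+* F) (hodd : Odd (Fintype.card F)) : Cnt False σ := by
  have : 1 < Fintype.card F := Fintype.one_lt_card
  exact ⟨Fintype.card F, by exact_mod_cast hodd, by omega, by omega, fun ι _ _ => card_gl σ hodd⟩

lemma cnt_gu {q : ℕ} (hF : Fintype.card F = q ^ 2) (hodd : Odd q) : Cnt True (Uni.conjHom hF) := by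
  have : 2 ≤ q := Uni.two_le_q hF
  exact ⟨-(q : ℤ), (show Odd (q : ℤ) by exact_mod_cast hodd).neg, by omega, by omega, fun ι _ _ => card_gu hF hodd⟩

/-- the tower -/
theorem tower_aux (h2 : (2 : F) ≠ 0) (hC : Cnt P σ)
    (hS : ∀ S : Sylow 2 (Gam P σ (Fin 2)), Cfsg.IsQuasiDihedral (S : Subgroup (Gam P σ (Fin 2))) ∨
      Cfsg.IsWreathed (S : Subgroup (Gam P σ (Fin 2)))) (k : ℕ) :
    ∃ (ι : Type) (_ : Fintype ι) (_ : DecidableEq ι), Fintype.card ι = 2 ^ (k + 1) ∧
      Tow (dt ι P σ) (SC ι P σ) (ng ι P σ) ∧ (1 ≤ k → NormIn (dt ι P σ) (SC ι P σ)) := by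
  induction k with
  | zero =>
    refine ⟨Fin 2, inferInstance, inferInstance, by simp, ?_, fun h => by omega⟩
    exact tow_base (Gam P σ (Fin 2)).subtype (Gam P σ (Fin 2)).subtype_injective hS h2 rfl
  | succ k ih =>
    obtain ⟨ι, i1, i2, hc, hT, -⟩ := ih
    obtain ⟨Q, hQ, h0, h0', hcnt⟩ := hC
    have hcard : (Nat.card (Gam P σ (ι ⊕ ι))).factorization 2 = 2 * (Nat.card (Gam P σ ι)).factorization 2 + 1 := by
      rw [hcnt, hcnt, Fintype.card_sum, hc]
      exact VV_double hQ h0 h0' (by omega)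
    have hev : Even (Fintype.card ι) := by rw [hc, pow_succ]; exact even_two.mul_left _
    refine ⟨ι ⊕ ι, inferInstance, inferInstance, by rw [Fintype.card_sum, hc, pow_succ _ (k + 1)]; ring, ?_,
      fun _ => (stepG ι P σ h2 hev hcard).normIn hT⟩
    have := (stepG ι P σ h2 hev hcard).tow hT
    rwa [stepG_z] at this

theorem tower_gl (hodd : Odd (Fintype.card F)) {w : ℕ} (hw : 2 ≤ w) :
    ∃ (ι : Type) (_ : Fintype ι) (_ : DecidableEq ι), Fintype.card ι = 2 ^ w ∧
      NormIn (dt ι False (RingHom.id F)) (SC ι False (RingHom.id F)) := by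
  have h2 : (2 : F) ≠ 0 := by
    intro h
    have h0 : Fintype.card F % 2 = 0 :=
      FiniteField.even_card_iff_char_two.mp (CharP.ringChar_of_prime_eq_zero Nat.prime_two (by exact_mod_cast h))
    obtain ⟨k, hk⟩ := hodd
    omega
  obtain ⟨ι, i1, i2, hc, -, hN⟩ := tower_aux (P := False) (σ := RingHom.id F) h2 (cnt_gl _ hodd) (by
    intro S
    have htop : Gam False (RingHom.id F) (Fin 2) = ⊤ := by
      rw [eq_top_iff]; intro g _ h; exact h.elim
    have hsurj : Function.Surjective (Gam False (RingHom.id F) (Fin 2)).subtype := by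
      intro g; exact ⟨⟨g, by rw [htop]; trivial⟩, rfl⟩
    have h1 := QDW.sylow_GL2 (S.mapSurjective hsurj)
    have e : (S : Subgroup (Gam False (RingHom.id F) (Fin 2))) ≃* ((S.mapSurjective hsurj : Sylow 2 (GL (Fin 2) F)) :
        Subgroup (GL (Fin 2) F)) :=
      (S : Subgroup (Gam False (RingHom.id F) (Fin 2))).equivMapOfInjective _ (Subgroup.subtype_injective _)
    obtain ⟨t, ht⟩ := hodd
    rcases (show Fintype.card F % 4 = 3 ∨ Fintype.card F % 4 = 1 by omega) with h | h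
    · left; exact QDW.isQuasiDihedral_of_equiv e.symm (h1.1 h)
    · right; exact QDW.isWreathed_of_equiv e.symm (h1.2 h)) (w - 1)
  exact ⟨ι, i1, i2, by rw [hc]; congr 1; omega, hN (by omega)⟩

theorem tower_gu {q : ℕ} (hF : Fintype.card F = q ^ 2) (hodd : Odd q) {w : ℕ} (hw : 2 ≤ w) :
    ∃ (ι : Type) (_ : Fintype ι) (_ : DecidableEq ι), Fintype.card ι = 2 ^ w ∧
      NormIn (dt ι True (Uni.conjHom hF)) (SC ι True (Uni.conjHom hF)) := by
  have h2 : (2 : F) ≠ 0 := by
    intro h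
    have h0 : Fintype.card F % 2 = 0 :=
      FiniteField.even_card_iff_char_two.mp (CharP.ringChar_of_prime_eq_zero Nat.prime_two (by exact_mod_cast h))
    obtain ⟨k, hk⟩ := hodd.pow (n := 2)
    rw [hF] at h0
    omega
  obtain ⟨ι, i1, i2, hc, -, hN⟩ := tower_aux (P := True) (σ := Uni.conjHom hF) h2 (cnt_gu hF hodd) (by
    have hGU : Gam True (Uni.conjHom hF) (Fin 2) = Cfsg.GU 2 F q := by
      ext g
      show (True → _) ↔ Uni.Pres q (g : Matrix (Fin 2) (Fin 2) F)
      rw [Uni.pres_iff_transpose_mul hF]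
      simp
    rw [hGU]
    intro S
    have h1 := QDW.sylow_GU2 hF S
    obtain ⟨t, ht⟩ := hodd
    rcases (show q % 4 = 1 ∨ q % 4 = 3 by omega) with h | h
    · left; exact h1.1 h
    · right; exact h1.2 h) (w - 1)
  exact ⟨ι, i1, i2, by rw [hc]; congr 1; omega, hN (by omega)⟩

end Cfsg.Agent.H95
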