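import Cfsg.Agent.H95.Tower

set_option autoImplicit false
set_option linter.unusedSectionVars false

/-!
The step of the tower for general linear and unitary groups.
-/

namespace Cfsg.Agent.H95

open Matrix

universe u v

variable {F : Type u} [Field F] {ι : Type} [Fintype ι] [DecidableEq ι]

/-- block diagonal matrices -/
def blkM : Matrix ι ι F × Matrix ι ι F →* Matrix (ι ⊕ ι) (ι ⊕ ι) F where
  toFun p := Matrix.fromBlocks p.1 0 0 p.2
  map_one' := Matrix.fromBlocks_one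
  map_mul' p q := by simp [Matrix.fromBlocks_multiply]

/-- block diagonal matrices -/
def blk : GL ι F × GL ι F →* GL (ι ⊕ ι) F := (Units.map blkM).comp MulEquiv.prodUnits.symm.toMonoidHom

lemma coe_blk (a b : GL ι F) : ((blk (a, b) : GL (ι ⊕ ι) F) : Matrix (ι ⊕ ι) (ι ⊕ ι) F) =
    fromBlocks (a : Matrix ι ι F) 0 0 (b : Matrix ι ι F) := rfl

/-- the swap -/
def swp : GL (ι ⊕ ι) F := ⟨fromBlocks 0 1 1 0, fromBlocks 0 1 1 0, by simp [Matrix.fromBlocks_multiply],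
  by simp [Matrix.fromBlocks_multiply]⟩

lemma coe_swp : ((swp : GL (ι ⊕ ι) F) : Matrix (ι ⊕ ι) (ι ⊕ ι) F) = fromBlocks 0 1 1 0 := rfl

lemma swp_sq : (swp : GL (ι ⊕ ι) F) * swp = 1 := by
  apply Units.ext
  rw [Units.val_mul, coe_swp]
  simp [Matrix.fromBlocks_multiply]

lemma swp_blk (a b : GL ι F) : swp * blk (a, b) * swp⁻¹ = blk (b, a) := by
  rw [mul_inv_eq_iff_eq_mul]
  apply Units.ext
  rw [Units.val_mul, Units.val_mul, coe_swp, coe_blk, coe_blk]
  simp [Matrix.fromBlocks_multiply]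

lemma blk_injective : Function.Injective (blk : GL ι F × GL ι F →* GL (ι ⊕ ι) F) := by
  rintro ⟨a, b⟩ ⟨c, d⟩ h
  have h1 := congrArg Units.val h
  rw [coe_blk, coe_blk, Matrix.fromBlocks_inj] at h1
  exact Prod.ext (Units.ext h1.1) (Units.ext h1.2.2.2)

lemma det_blk (a b : GL ι F) : Matrix.GeneralLinearGroup.det (blk (a, b)) =
    Matrix.GeneralLinearGroup.det a * Matrix.GeneralLinearGroup.det b := by
  apply Units.ext
  show Matrix.det (fromBlocks (a : Matrix ι ι F) 0 0 (b : Matrix ι ι F)) = _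
  rw [Matrix.det_fromBlocks_zero₂₁]; rfl

lemma det_swp (h : Even (Fintype.card ι)) : Matrix.GeneralLinearGroup.det (swp : GL (ι ⊕ ι) F) = 1 := by
  apply Units.ext
  show Matrix.det (fromBlocks 0 1 1 0 : Matrix (ι ⊕ ι) (ι ⊕ ι) F) = 1
  have h1 : (fromBlocks 0 1 1 0 : Matrix (ι ⊕ ι) (ι ⊕ ι) F) =
      fromBlocks 1 0 0 (-1) * (fromBlocks 1 1 0 1 * (fromBlocks 1 0 (-1) 1 * fromBlocks 1 1 0 1)) := by
    simp [Matrix.fromBlocks_multiply]
  rw [h1, Matrix.det_mul, Matrix.det_mul, Matrix.det_mul, Matrix.det_fromBlocks_zero₂₁, Matrix.det_fromBlocks_zero₂₁,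
    Matrix.det_fromBlocks_zero₁₂, Matrix.det_one, Matrix.det_neg, Matrix.det_one, h.neg_one_pow]
  ring

lemma blk_neg : (blk ((-1 : GL ι F), (-1 : GL ι F)) : GL (ι ⊕ ι) F) = -1 := by
  apply Units.ext
  rw [coe_blk, Units.val_neg, Units.val_neg, Units.val_one, Units.val_one, ← Matrix.fromBlocks_one, Matrix.fromBlocks_neg]
  simp

/-- elements commuting with `diag(-1, 1)` -/
lemma exists_blk (h2 : (2 : F) ≠ 0) {g : GL (ι ⊕ ι) F} (hg : g * blk ((-1 : GL ι F), (1 : GL ι F)) = blk ((-1 : GL ι F), (1 : GL ι F)) * g) :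
    ∃ a b, g = blk (a, b) := by
  have key : ∀ g : GL (ι ⊕ ι) F, g * blk ((-1 : GL ι F), (1 : GL ι F)) = blk ((-1 : GL ι F), (1 : GL ι F)) * g →
      (g : Matrix (ι ⊕ ι) (ι ⊕ ι) F) = fromBlocks (g : Matrix (ι ⊕ ι) (ι ⊕ ι) F).toBlocks₁₁ 0 0
        (g : Matrix (ι ⊕ ι) (ι ⊕ ι) F).toBlocks₂₂ := by
    intro g hg
    obtain ⟨A, B, C, D, hM⟩ : ∃ A B C D, (g : Matrix (ι ⊕ ι) (ι ⊕ ι) F) = fromBlocks A B C D :=
      ⟨_, _, _, _, (Matrix.fromBlocks_toBlocks _).symm⟩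
    have h1 := congrArg Units.val hg
    rw [Units.val_mul, Units.val_mul, coe_blk, hM, Units.val_neg, Units.val_one] at h1
    simp only [Matrix.fromBlocks_multiply, mul_zero, zero_mul, add_zero, zero_add, mul_one, one_mul, mul_neg, neg_mul] at h1
    rw [Matrix.fromBlocks_inj] at h1
    obtain ⟨-, h3, h4, -⟩ := h1
    have hB : B = 0 := by
      have h5 : (2 : F) • B = 0 := by rw [two_smul]; nth_rewrite 1 [h3]; simp
      exact (smul_eq_zero.1 h5).resolve_left h2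
    have hC : C = 0 := by
      have h5 : (2 : F) • C = 0 := by rw [two_smul]; nth_rewrite 1 [← h4]; simp
      exact (smul_eq_zero.1 h5).resolve_left h2
    rw [hM, hB, hC]
    simp
  have hgi : g⁻¹ * blk ((-1 : GL ι F), (1 : GL ι F)) = blk ((-1 : GL ι F), (1 : GL ι F)) * g⁻¹ := by
    rw [inv_mul_eq_iff_eq_mul, ← mul_assoc, eq_mul_inv_iff_mul_eq]; exact hg.symm
  have h1 := key g hg
  have h3 := key g⁻¹ hgi
  set A := (g : Matrix (ι ⊕ ι) (ι ⊕ ι) F).toBlocks₁₁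
  set D := (g : Matrix (ι ⊕ ι) (ι ⊕ ι) F).toBlocks₂₂
  set A' := ((g⁻¹ : GL (ι ⊕ ι) F) : Matrix (ι ⊕ ι) (ι ⊕ ι) F).toBlocks₁₁
  set D' := ((g⁻¹ : GL (ι ⊕ ι) F) : Matrix (ι ⊕ ι) (ι ⊕ ι) F).toBlocks₂₂
  have h4 : fromBlocks A 0 0 D * fromBlocks A' 0 0 D' = (1 : Matrix (ι ⊕ ι) (ι ⊕ ι) F) := by
    rw [← h1, ← h3, ← Units.val_mul, mul_inv_cancel, Units.val_one]
  have h5 : fromBlocks A' 0 0 D' * fromBlocks A 0 0 D = (1 : Matrix (ι ⊕ ι) (ι ⊕ ι) F) := by
    rw [← h1, ← h3, ← Units.val_mul, inv_mul_cancel, Units.val_one]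
  rw [Matrix.fromBlocks_multiply, ← Matrix.fromBlocks_one, Matrix.fromBlocks_inj] at h4 h5
  simp only [mul_zero, zero_mul, add_zero, zero_add] at h4 h5
  refine ⟨⟨A, A', h4.1, h5.1⟩, ⟨D, D', h4.2.2.2, h5.2.2.2⟩, ?_⟩
  apply Units.ext
  rw [coe_blk, h1]

lemma blk_center {g : GL ι F} (hg : g ∈ Subgroup.center (GL ι F)) : blk (g, g) ∈ Subgroup.center (GL (ι ⊕ ι) F) := by
  rw [Matrix.GeneralLinearGroup.mem_center_iff_val_mem_range_scalar] at hg ⊢
  obtain ⟨r, hr⟩ := hg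
  refine ⟨r, ?_⟩
  rw [coe_blk]
  rw [← hr, Matrix.scalar_apply, Matrix.scalar_apply, Matrix.fromBlocks_diagonal]
  congr 1
  funext i
  rcases i with i | i <;> rfl

lemma inv_center {g : GL ι F} (hg : g ∈ Subgroup.center (GL ι F)) (h : g * g = 1) : g = 1 ∨ g = -1 := by
  rcases isEmpty_or_nonempty ι with hι | ⟨⟨i⟩⟩
  · left; apply Units.ext; ext i; exact hι.elim i
  rw [Matrix.GeneralLinearGroup.mem_center_iff_val_mem_range_scalar] at hg
  obtain ⟨r, hr⟩ := hg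
  have h2 : (g : Matrix ι ι F) * g = 1 := congrArg Units.val h
  rw [← hr] at h2
  have h3 : r * r = 1 := by
    have := congrFun (congrFun h2 i) i
    simpa [Matrix.scalar_apply] using this
  rcases mul_self_eq_one_iff.1 h3 with h4 | h4
  · left
    apply Units.ext
    rw [← hr, h4, map_one]; rfl
  · right
    apply Units.ext
    rw [← hr, h4, map_neg, map_one]; rfl

/-! ### the groups -/

/-- general linear (`P` false) or unitary (`P` true) groups -/
def Gam (P : Prop) (σ : F →+* F) (ι : Type) [Fintype ι] [DecidableEq ι] : Subgroup (GL ι F) where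
  carrier := {g | P → (g : Matrix ι ι F)ᵀ * (g : Matrix ι ι F).map σ = 1}
  one_mem' := fun _ => by simp
  mul_mem' := by
    intro a b ha hb h
    have h1 : (a : Matrix ι ι F)ᵀ * (a : Matrix ι ι F).map σ = 1 := ha h
    have h2 : (b : Matrix ι ι F)ᵀ * (b : Matrix ι ι F).map σ = 1 := hb h
    show ((a * b : GL ι F) : Matrix ι ι F)ᵀ * ((a * b : GL ι F) : Matrix ι ι F).map σ = 1
    rw [Units.val_mul, Matrix.transpose_mul, Matrix.map_mul]
    calc _ = (b : Matrix ι ι F)ᵀ * ((a : Matrix ι ι F)ᵀ * (a : Matrix ι ι F).map σ) * (b : Matrix ι ι F).map σ := by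
          simp only [Matrix.mul_assoc]
      _ = 1 := by rw [h1, mul_one, h2]
  inv_mem' := by
    intro a ha h
    have h1 : (a : Matrix ι ι F)ᵀ * (a : Matrix ι ι F).map σ = 1 := ha h
    have h2 : (a : Matrix ι ι F).map σ * (a : Matrix ι ι F)ᵀ = 1 := mul_eq_one_comm.1 h1
    set b : Matrix ι ι F := ((a⁻¹ : GL ι F) : Matrix ι ι F) with hb
    have h3 : (a : Matrix ι ι F) * b = 1 := by rw [hb, ← Units.val_mul, mul_inv_cancel, Units.val_one]
    have h4 : b * (a : Matrix ι ι F) = 1 := by rw [hb, ← Units.val_mul, inv_mul_cancel, Units.val_one]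
    show bᵀ * b.map σ = 1
    have h5 : (a : Matrix ι ι F)ᵀ * bᵀ = 1 := by rw [← Matrix.transpose_mul, h4, Matrix.transpose_one]
    have h6 : b.map σ * (a : Matrix ι ι F).map σ = 1 := by
      rw [← Matrix.map_mul, h4]; simp
    calc bᵀ * b.map σ = ((a : Matrix ι ι F).map σ * (a : Matrix ι ι F)ᵀ) * (bᵀ * b.map σ) *
          ((a : Matrix ι ι F).map σ * (a : Matrix ι ι F)ᵀ) := by rw [h2, one_mul, mul_one]
      _ = (a : Matrix ι ι F).map σ * ((a : Matrix ι ι F)ᵀ * bᵀ) * (b.map σ * (a : Matrix ι ι F).map σ) *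
          (a : Matrix ι ι F)ᵀ := by simp only [Matrix.mul_assoc]
      _ = 1 := by rw [h5, h6, mul_one, mul_one, h2]

variable {P : Prop} {σ : F →+* F}

lemma mem_Gam {g : GL ι F} : g ∈ Gam P σ ι ↔ (P → (g : Matrix ι ι F)ᵀ * (g : Matrix ι ι F).map σ = 1) := Iff.rfl

lemma neg_mem_Gam : (-1 : GL ι F) ∈ Gam P σ ι := by
  intro _
  rw [Units.val_neg, Units.val_one, Matrix.transpose_neg, Matrix.transpose_one]
  have : (-1 : Matrix ι ι F).map σ = -1 := by
    ext i j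
    rw [Matrix.map_apply, Matrix.neg_apply, map_neg, Matrix.one_apply]
    split_ifs <;> simp
  rw [this, neg_mul_neg, one_mul]

lemma blk_mem {a b : GL ι F} : blk (a, b) ∈ Gam P σ (ι ⊕ ι) ↔ a ∈ Gam P σ ι ∧ b ∈ Gam P σ ι := by
  rw [mem_Gam, mem_Gam, mem_Gam, coe_blk, Matrix.fromBlocks_transpose, Matrix.fromBlocks_map, Matrix.fromBlocks_multiply,
    ← Matrix.fromBlocks_one, Matrix.fromBlocks_inj]
  simp only [Matrix.map_zero σ (map_zero σ), Matrix.transpose_zero, mul_zero, zero_mul, add_zero, zero_add, true_and]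
  tauto

lemma swp_mem : (swp : GL (ι ⊕ ι) F) ∈ Gam P σ (ι ⊕ ι) := by
  intro _
  rw [coe_swp, Matrix.fromBlocks_transpose, Matrix.fromBlocks_map, Matrix.map_zero σ (map_zero σ),
    Matrix.map_one σ (map_zero σ) (map_one σ), Matrix.fromBlocks_multiply]
  simp

variable (P σ ι)

/-- the determinant -/
noncomputable def dt : Gam P σ ι →* Fˣ := (Matrix.GeneralLinearGroup.det).comp (Gam P σ ι).subtype

/-- the scalars -/
def SC : Subgroup (Gam P σ ι) := (Subgroup.center (GL ι F)).subgroupOf (Gam P σ ι)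

/-- minus one -/
def ng : Gam P σ ι := ⟨-1, neg_mem_Gam⟩

lemma SC_le : SC ι P σ ≤ Subgroup.center (Gam P σ ι) := by
  intro g hg
  rw [Subgroup.mem_center_iff]
  intro x
  apply Subtype.ext
  exact Subgroup.mem_center_iff.1 hg x

/-- the embedding -/
noncomputable def jG : Gam P σ ι × Gam P σ ι →* Gam P σ (ι ⊕ ι) where
  toFun p := ⟨blk (p.1, p.2), blk_mem.2 ⟨p.1.2, p.2.2⟩⟩
  map_one' := Subtype.ext (map_one blk)
  map_mul' p q := Subtype.ext (map_mul blk (p.1.1, p.2.1) (q.1.1, q.2.1))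

/-- the step of the tower -/
noncomputable def stepG (h2 : (2 : F) ≠ 0) (hev : Even (Fintype.card ι))
    (hcard : (Nat.card (Gam P σ (ι ⊕ ι))).factorization 2 = 2 * (Nat.card (Gam P σ ι)).factorization 2 + 1) :
    Step (dt ι P σ) (dt (ι ⊕ ι) P σ) (SC ι P σ) (SC (ι ⊕ ι) P σ) (ng ι P σ) where
  j := jG ι P σ
  hj := by
    rintro ⟨a, b⟩ ⟨c, d⟩ h
    have h1 := blk_injective (congrArg Subtype.val h)
    exact Prod.ext (Subtype.ext (congrArg Prod.fst h1)) (Subtype.ext (congrArg Prod.snd h1))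
  hdet a b := det_blk a.1 b.1
  τ := ⟨swp, swp_mem⟩
  τ2 := Subtype.ext swp_sq
  hτ a b := Subtype.ext (swp_blk a.1 b.1)
  hτd := det_swp hev
  hcent g hg := by
    obtain ⟨a, b, h⟩ := exists_blk h2 (congrArg Subtype.val hg : (g : GL (ι ⊕ ι) F) * blk ((-1 : GL ι F), (1 : GL ι F)) = _)
    have h3 : blk (a, b) ∈ Gam P σ (ι ⊕ ι) := h ▸ g.2
    exact ⟨⟨a, (blk_mem.1 h3).1⟩, ⟨b, (blk_mem.1 h3).2⟩, Subtype.ext h⟩
  zle' := SC_le (ι ⊕ ι) P σ
  hcen a ha := blk_center (g := a.1) ha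
  hinv u hu h := by
    rcases inv_center (g := u.1) hu (congrArg Subtype.val h) with h1 | h1
    · left; exact Subtype.ext h1
    · right
      apply Subtype.ext
      rw [h1]
      exact blk_neg.symm
  hcard := hcard

lemma stepG_z (h2 : (2 : F) ≠ 0) (hev : Even (Fintype.card ι))
    (hcard : (Nat.card (Gam P σ (ι ⊕ ι))).factorization 2 = 2 * (Nat.card (Gam P σ ι)).factorization 2 + 1) :
    (stepG ι P σ h2 hev hcard).j (ng ι P σ, ng ι P σ) = ng (ι ⊕ ι) P σ := Subtype.ext blk_neg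

end Cfsg.Agent.H95
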