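import Cfsg.Agent.H95.ProBN
import Cfsg.Agent.ClBN.UniI
import Cfsg.Agent.ClRG.SLp

set_option autoImplicit false
set_option linter.unusedSectionVars false

/-!
Odd index subgroups of `PSL`, `PSU` in characteristic two (any characteristic, index prime to `p`) are pronormal.
-/

namespace Cfsg.Agent.H95

open Cfsg.Agent.ChevGrp Cfsg.Agent.ChevGrp.RGrp Cfsg.Agent.ChevWeyl Cfsg.Agent.AutChev Cfsg.Agent.ClRG Cfsg.Agent.ClBN

universe u

lemma mono_comm {l : ℕ} {F : Type u} [Field F] {g h : Matrix.SpecialLinearGroup (Fin (l + 1)) F} (hg : g ∈ HA l F)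
    (hh : h ∈ HA l F) : g * h = h * g := by
  obtain ⟨d, -, hd⟩ := hg
  obtain ⟨e, -, he⟩ := hh
  have h1 : (g : Matrix (Fin (l + 1)) (Fin (l + 1)) F) = Matrix.diagonal d := by
    ext i j
    rw [hd, Matrix.diagonal_apply]
    by_cases hij : i = j
    · subst hij; simp
    · rw [if_neg hij, if_neg (by simpa using hij)]
  have h2 : (h : Matrix (Fin (l + 1)) (Fin (l + 1)) F) = Matrix.diagonal e := by
    ext i j
    rw [he, Matrix.diagonal_apply]
    by_cases hij : i = j
    · subst hij; simp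
    · rw [if_neg hij, if_neg (by simpa using hij)]
  apply Subtype.ext
  rw [Matrix.SpecialLinearGroup.coe_mul, Matrix.SpecialLinearGroup.coe_mul, h1, h2, Matrix.diagonal_mul_diagonal,
    Matrix.diagonal_mul_diagonal]
  congr 1
  funext i
  exact mul_comm _ _

theorem isPronormal_PSL_char {F : Type u} [Field F] [Fintype F] (p : ℕ) [Fact p.Prime] [CharP F p] (n : ℕ) (hn : 0 < n)
    (H : Subgroup (Matrix.ProjectiveSpecialLinearGroup (Fin n) F)) (hH : ¬ p ∣ H.index) : Cfsg.IsPronormal H := by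
  obtain ⟨l, rfl⟩ : ∃ l, n = l + 1 := ⟨n - 1, by omega⟩
  have hfin : Finite (Matrix.ProjectiveSpecialLinearGroup (Fin (l + 1)) F) := by
    unfold Matrix.ProjectiveSpecialLinearGroup; infer_instance
  refine isPronormal_BN (R := rgPSL l F) rgPSL_Grp ?_ p
    ((isPGroup_U_PSL p).toSylow (not_dvd_index_U' (rgPSL l F) rgPSL_Grp p (isPGroup_U_PSL p) (not_dvd_H_PSL p))) rfl hH
  rintro a ⟨x, hx, rfl⟩ b ⟨y, hy, rfl⟩
  rw [← map_mul, ← map_mul, mono_comm hx hy]

lemma mon_comm {m : ℕ} {F : Type u} [Field F] {g h : GL (Ix m Empty) F} (hg : Mon (AddEquiv.refl _) g)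
    (hh : Mon (AddEquiv.refl _) h) : g * h = h * g := by
  have key : ∀ g : GL (Ix m Empty) F, Mon (AddEquiv.refl _) g →
      (g : Matrix (Ix m Empty) (Ix m Empty) F) = Matrix.diagonal fun i => (g : Matrix (Ix m Empty) (Ix m Empty) F) i i := by
    intro g hg
    ext i j
    by_cases hij : i = j
    · subst hij; rw [Matrix.diagonal_apply_eq]
    · rw [Matrix.diagonal_apply_ne _ hij]
      by_contra h2
      have h3 : wt i = wt j := hg.1 i j h2
      apply hij
      rcases i with r | z
      · rcases j with r' | z'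
        · rw [wt_inl, wt_inl] at h3
          rw [wP_injective h3]
        · exact z'.elim
      · exact z.elim
  apply Units.ext
  rw [Units.val_mul, Units.val_mul, key g hg, key h hh, Matrix.diagonal_mul_diagonal, Matrix.diagonal_mul_diagonal]
  congr 1
  funext i
  exact mul_comm _ _

theorem isPronormal_PSU_char {F : Type u} [Field F] [Fintype F] {q : ℕ} (hF : Fintype.card F = q ^ 2) (p : ℕ)
    [Fact p.Prime] [CharP F p] (m : ℕ) (H : Subgroup (Cfsg.PSU (2 * m) F q)) (hH : ¬ p ∣ H.index) :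
    Cfsg.IsPronormal H := by
  obtain ⟨e⟩ := exists_suEquiv (m := m) (κ := Empty) hF (n := 2 * m) (by simp; omega)
  let f : G0U Empty m hF →* Cfsg.PSU (2 * m) F q :=
    (QuotientGroup.mk' (Subgroup.center (Cfsg.SU (2 * m) F q))).comp e.toMonoidHom
  have hf : Function.Surjective f := (QuotientGroup.mk'_surjective _).comp e.surjective
  apply isPronormal_map f hf
  have hK := KK_le_G0U (m := m) (κ := Empty) (p := p) hF
  have hG := good_U (κ := Empty) m hF
  have hGrp : (hG.RG0 hK).Grp = ⊤ := hG.RG0_Grp hK (fun _ hg => hG.gen_B (fun p => Or.inr ⟨p, rfl⟩) hg.1)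
  have hU : IsPGroup p (hG.RG0 hK).U := hG.RG0_isPGroup_U hK
  have hp : p.Prime := Fact.out
  have hH2 : ¬ p ∣ Nat.card (hG.RG0 hK).H := by
    intro hd
    obtain ⟨h, hh⟩ := exists_prime_orderOf_dvd_card' p hd
    have h3 : (h : G0U Empty m hF) = 1 := by
      apply Subtype.ext
      have h4 : h ^ p = 1 := by rw [← hh]; exact pow_orderOf_eq_one h
      have h5 := congrArg (fun z : (hG.RG0 hK).H => ((z : G0U Empty m hF) : GL (Ix m Empty) F)) h4
      exact eq_one_of_pow h.2.1.2 h5
    have h4 : h = 1 := Subtype.ext h3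
    rw [h4, orderOf_one] at hh
    exact hp.one_lt.ne hh
  refine isPronormal_BN (R := hG.RG0 hK) hGrp ?_ p
    (hU.toSylow (not_dvd_index_U' (hG.RG0 hK) hGrp p hU hH2)) rfl ?_
  · intro a ha b hb
    apply Subtype.ext
    exact mon_comm ha.1.2 hb.1.2
  · rwa [Subgroup.index_comap_of_surjective _ hf]

end Cfsg.Agent.H95
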