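import Cfsg.Agent.H95.GamCard
import Cfsg.Agent.H95.ProInst

set_option autoImplicit false
set_option linter.unusedSectionVars false

/-!
Pronormality of odd index subgroups from the normaliser property.
-/

namespace Cfsg.Agent.H95

open Matrix

universe u v

/-- if odd order elements normalising `S` are central then `N(S)` normalises each subgroup containing `S` -/
theorem norm_of_central {G : Type u} [Group G] [Finite G] (S : Sylow 2 G)
    (hc : ∀ x : G, Odd (orderOf x) → (∀ s ∈ (S : Subgroup G), x * s * x⁻¹ ∈ (S : Subgroup G)) → x ∈ Subgroup.center G)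
    {H : Subgroup G} (hSH : (S : Subgroup G) ≤ H) :
    ∀ x ∈ Subgroup.normalizer ((S : Subgroup G) : Set G), ∀ h ∈ H, x * h * x⁻¹ ∈ H := by
  intro x hx
  obtain ⟨k, m, hm, hkm⟩ := Nat.exists_eq_two_pow_mul_odd (orderOf_pos x).ne'
  have hnorm : ∀ i : ℕ, x ^ i ∈ Subgroup.normalizer ((S : Subgroup G) : Set G) := fun i => pow_mem hx i
  -- the 2-part
  have h1 : x ^ m ∈ (S : Subgroup G) := by
    have h2 : IsPGroup 2 (Subgroup.zpowers (x ^ m)) := by
      rintro ⟨y, n, rfl⟩
      refine ⟨k, Subtype.ext ?_⟩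
      show ((x ^ m) ^ n) ^ 2 ^ k = 1
      rw [← zpow_natCast, ← _root_.zpow_mul, mul_comm, _root_.zpow_mul]
      have : (x ^ m) ^ ((2 ^ k : ℕ) : ℤ) = 1 := by
        rw [zpow_natCast, ← pow_mul, mul_comm, ← hkm, pow_orderOf_eq_one]
      rw [this, _root_.one_zpow]
    have h3 := h2.inf_normalizer_sylow S
    have h4 : x ^ m ∈ Subgroup.zpowers (x ^ m) ⊓ Subgroup.normalizer ((S : Subgroup G) : Set G) :=
      ⟨Subgroup.mem_zpowers _, hnorm m⟩
    exact (h3.le h4).2
  have h2 : x ^ 2 ^ k ∈ Subgroup.center G := by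
    apply hc
    · refine odd_of_pow hm ?_
      rw [← pow_mul, ← hkm, pow_orderOf_eq_one]
    · intro s hs
      exact (Subgroup.mem_normalizer_iff.1 (hnorm (2 ^ k)) s).1 hs
  have hcop : Nat.Coprime (2 ^ k) m := Nat.Coprime.pow_left k ((Nat.coprime_two_left).2 hm)
  have hb : (1 : ℤ) = (2 ^ k : ℕ) * Nat.gcdA (2 ^ k) m + (m : ℕ) * Nat.gcdB (2 ^ k) m := by
    rw [← Nat.gcd_eq_gcd_ab, hcop]; rfl
  have hxe : x = (x ^ 2 ^ k) ^ Nat.gcdA (2 ^ k) m * (x ^ m) ^ Nat.gcdB (2 ^ k) m := by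
    rw [← zpow_natCast, ← zpow_natCast, ← _root_.zpow_mul, ← _root_.zpow_mul, ← _root_.zpow_add, ← hb, zpow_one]
  intro h hh
  have h3 : (x ^ 2 ^ k) ^ Nat.gcdA (2 ^ k) m ∈ Subgroup.center G := zpow_mem h2 _
  have h4 : (x ^ m) ^ Nat.gcdB (2 ^ k) m ∈ H := zpow_mem (hSH h1) _
  rw [hxe]
  set a := (x ^ 2 ^ k) ^ Nat.gcdA (2 ^ k) m
  set b := (x ^ m) ^ Nat.gcdB (2 ^ k) m
  have e : a * b * h * (a * b)⁻¹ = a * (b * h * b⁻¹) * a⁻¹ := by group
  rw [e, ← Subgroup.mem_center_iff.1 h3 (b * h * b⁻¹), mul_inv_cancel_right]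
  exact mul_mem (mul_mem h4 hh) (inv_mem h4)

lemma not_two_dvd_of_odd {n : ℕ} (h : Odd n) : ¬ 2 ∣ n := by
  rw [← even_iff_two_dvd, Nat.not_even_iff_odd]; exact h

/-- the two previous results together -/
theorem isPronormal_of_central {G : Type u} [Group G] [Finite G]
    (hc : ∀ S : Sylow 2 G, ∀ x : G, Odd (orderOf x) → (∀ s ∈ (S : Subgroup G), x * s * x⁻¹ ∈ (S : Subgroup G)) →
      x ∈ Subgroup.center G) {G' : Type u} [Group G'] (π : G →* G') (hπ : Function.Surjective π) (H : Subgroup G')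
    (hH : Odd H.index) : Cfsg.IsPronormal H := by
  apply isPronormal_map π hπ
  obtain ⟨S⟩ : Nonempty (Sylow 2 G) := inferInstance
  apply isPronormal_of_sylow S
  · rw [Subgroup.index_comap_of_surjective _ hπ]; exact not_two_dvd_of_odd hH
  · intro K hK
    exact isPronormal_of_norm S K hK (norm_of_central S (hc S) hK)

variable {F : Type u} [Field F] [Fintype F] {P : Prop} {σ : F →+* F}

theorem pro_of_normIn {n : ℕ} {G : Type u} [Group G] [Finite G] (φ : G →* Matrix.SpecialLinearGroup (Fin n) F)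
    (hφ : Function.Injective φ)
    (hr : ∀ g : Matrix.SpecialLinearGroup (Fin n) F, g ∈ φ.range ↔ (Matrix.SpecialLinearGroup.toGL g) ∈ Gam P σ (Fin n))
    {ι : Type} [Fintype ι] [DecidableEq ι] (hι : Fintype.card ι = n) (hN : NormIn (dt ι P σ) (SC ι P σ))
    {G' : Type u} [Group G'] (π : G →* G') (hπ : Function.Surjective π) (H : Subgroup G')
    (hH : Odd H.index) : Cfsg.IsPronormal H := by
  refine isPronormal_of_central (fun S x hx hn => ?_) π hπ H hH
  obtain ⟨e⟩ : Nonempty (Fin n ≃ ι) := ⟨(Fintype.equivFinOfCardEq hι).symm⟩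
  let f : G →* Gam P σ ι := ((rx e).toMonoidHom.comp (Matrix.SpecialLinearGroup.toGL.comp φ)).codRestrict (Gam P σ ι)
    (fun g => (rx_mem e _).2 ((hr _).1 ⟨g, rfl⟩))
  have hf : Function.Injective f := by
    intro a b hab
    have h1 : rx e (Matrix.SpecialLinearGroup.toGL (φ a)) = rx e (Matrix.SpecialLinearGroup.toGL (φ b)) :=
      congrArg Subtype.val hab
    have h2 := (rx e).injective h1
    apply hφ
    apply Subtype.ext
    exact congrArg Units.val h2
  have hker : (dt ι P σ).ker = f.range := by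
    ext g
    constructor
    · intro hg
      have hd : Matrix.GeneralLinearGroup.det (g : GL ι F) = 1 := hg
      obtain ⟨g₀, hg₀⟩ := (rx e).surjective (g : GL ι F)
      have hd0 : Matrix.GeneralLinearGroup.det g₀ = 1 := by rw [← det_rx e g₀, hg₀, hd]
      have hd1 : (g₀ : Matrix (Fin n) (Fin n) F).det = 1 := congrArg Units.val hd0
      have h3 : Matrix.SpecialLinearGroup.toGL (⟨g₀, hd1⟩ : Matrix.SpecialLinearGroup (Fin n) F) = g₀ := Units.ext rfl
      obtain ⟨y, hy⟩ := (hr ⟨g₀, hd1⟩).2 (by rw [h3, ← rx_mem e, hg₀]; exact g.2)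
      refine ⟨y, Subtype.ext ?_⟩
      show rx e (Matrix.SpecialLinearGroup.toGL (φ y)) = g
      rw [hy, h3, hg₀]
    · rintro ⟨y, rfl⟩
      show Matrix.GeneralLinearGroup.det (rx e (Matrix.SpecialLinearGroup.toGL (φ y))) = 1
      rw [det_rx]
      apply Units.ext
      exact (φ y).2
  have hS : SylIn ((S : Subgroup G).map f) (dt ι P σ).ker := by
    refine ⟨?_, S.isPGroup'.map f, ?_⟩
    · rw [hker]; rintro _ ⟨s, -, rfl⟩; exact ⟨s, rfl⟩
    · rw [hker, MonoidHom.range_eq_map, Subgroup.relIndex_map_map_of_injective _ _ hf, Subgroup.relIndex_top_right]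
      exact S.not_dvd_index
  have h1 : f x ∈ SC ι P σ := by
    apply hN _ hS
    · rwa [orderOf_injective f hf]
    · rintro _ ⟨s, hs, rfl⟩
      exact ⟨x * s * x⁻¹, hn s hs, by rw [map_mul, map_mul, map_inv]⟩
  rw [Subgroup.mem_center_iff]
  intro g
  apply hf
  rw [map_mul, map_mul]
  exact Subgroup.mem_center_iff.1 (SC_le ι P σ h1) (f g)

theorem isPronormal_PSL_odd (hodd : Odd (Fintype.card F)) {w : ℕ} (hw : 2 ≤ w)
    (H : Subgroup (Matrix.ProjectiveSpecialLinearGroup (Fin (2 ^ w)) F)) (hH : Odd H.index) : Cfsg.IsPronormal H := by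
  obtain ⟨ι, i1, i2, hc, hN⟩ := tower_gl hodd hw
  refine pro_of_normIn (MonoidHom.id _) Function.injective_id (fun g => ?_) hc hN
    (QuotientGroup.mk' (Subgroup.center (Matrix.SpecialLinearGroup (Fin (2 ^ w)) F)))
    (QuotientGroup.mk'_surjective _) H hH
  constructor
  · intro _ h; exact h.elim
  · intro _; exact ⟨g, rfl⟩

theorem isPronormal_PSU_odd {q : ℕ} (hF : Fintype.card F = q ^ 2) (hodd : Odd q) {w : ℕ} (hw : 2 ≤ w)
    (H : Subgroup (Cfsg.PSU (2 ^ w) F q)) (hH : Odd H.index) : Cfsg.IsPronormal H := by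
  obtain ⟨ι, i1, i2, hc, hN⟩ := tower_gu hF hodd hw
  refine pro_of_normIn (Cfsg.SU (2 ^ w) F q).subtype (Subgroup.subtype_injective _) (fun g => ?_) hc hN
    (QuotientGroup.mk' (Subgroup.center (Cfsg.SU (2 ^ w) F q)))
    (QuotientGroup.mk'_surjective _) H hH
  rw [Subgroup.range_subtype, mem_Gam, Uni.mem_SU, Uni.pres_iff_transpose_mul hF]
  constructor
  · intro h _; exact h
  · intro h; exact h trivial

/-- row S2226 -/
theorem isPronormal_PSU (q : ℕ) (hF : Fintype.card F = q ^ 2) (w : ℕ) (hw : 2 ≤ w)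
    (H : Subgroup (Cfsg.PSU (2 ^ w) F q)) (hH : Odd H.index) : Cfsg.IsPronormal H := by
  rcases Nat.even_or_odd q with hq | hq
  · have h2 : CharP F 2 := by
      have h0 : Fintype.card F % 2 = 0 := by
        rw [hF]; exact Nat.even_iff.1 (hq.pow_of_ne_zero (by norm_num))
      have h1 := FiniteField.even_card_iff_char_two.2 h0
      rw [← h1]; exact ringChar.charP F
    have e : 2 ^ w = 2 * 2 ^ (w - 1) := by rw [← pow_succ']; congr 1; omega
    revert H
    rw [e]
    intro H hH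
    exact isPronormal_PSU_char hF 2 _ H (not_two_dvd_of_odd hH)
  · exact isPronormal_PSU_odd hF hq hw H hH

end Cfsg.Agent.H95
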