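import Cfsg.Agent.H95.CAQ8b
import Cfsg.Agent.H95.ProFin
import Cfsg.Agent.S0261
import Cfsg.Agent.S3742
import Cfsg.Agent.S5112

set_option autoImplicit false
set_option linter.unusedSectionVars false

/-!
Odd index subgroups of `PSL(2, q)` are pronormal.
-/

namespace Cfsg.Agent.H95

universe u

section abs

variable {G : Type u} [Group G] [Finite G] {z : G}

/-- the number of automorphisms of a quaternion group of order eight -/
lemma card_aut_Q8 {S : Subgroup G} (e : Nonempty (S ≃* QuaternionGroup 2)) : Nat.card (MulAut S) = 24 := by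
  obtain ⟨e⟩ := e
  obtain ⟨f⟩ := S3742.result
  rw [Nat.card_congr ((MulAut.congr e).trans f).toEquiv, Nat.card_eq_fintype_card, Fintype.card_perm, Fintype.card_fin]
  rfl

/-- conjugation action of the normaliser -/
noncomputable def conjN (S : Subgroup G) : Subgroup.normalizer (S : Set G) →* MulAut S where
  toFun g :=
    { toFun := fun s => ⟨g * s * (g : G)⁻¹, (Subgroup.mem_normalizer_iff.1 g.2 s).1 s.2⟩
      invFun := fun s => ⟨(g : G)⁻¹ * s * g, by
        have := (Subgroup.mem_normalizer_iff.1 (inv_mem g.2) (s : G)).1 s.2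
        rwa [inv_inv] at this⟩
      left_inv := fun s => Subtype.ext (by show (g : G)⁻¹ * (g * s * (g : G)⁻¹) * g = s; group)
      right_inv := fun s => Subtype.ext (by show (g : G) * ((g : G)⁻¹ * s * g) * (g : G)⁻¹ = s; group)
      map_mul' := fun s t => Subtype.ext (by
        show (g : G) * (s * t) * (g : G)⁻¹ = g * s * (g : G)⁻¹ * (g * t * (g : G)⁻¹); group) }
  map_one' := by
    ext s
    show (1 : G) * s * (1 : G)⁻¹ = s
    group
  map_mul' g h := by
    ext s
    show (g * h : G) * s * (g * h : G)⁻¹ = g * (h * s * (h : G)⁻¹) * (g : G)⁻¹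
    group

lemma conjN_apply (S : Subgroup G) (g : Subgroup.normalizer (S : Set G)) (s : S) :
    ((conjN S g s : S) : G) = g * s * (g : G)⁻¹ := rfl

/-- if `K` contains an odd order element properly normalising `S` then it contains the normaliser -/
theorem normalizer_le (C : CA z) (S : Sylow 2 G) (Q : QS (S : Subgroup G))
    (e : Nonempty ((S : Subgroup G) ≃* QuaternionGroup 2)) {K : Subgroup G} (hSK : (S : Subgroup G) ≤ K) {y : G}
    (hyK : y ∈ K) (hy : Odd (orderOf y)) (hyS : ∀ s ∈ (S : Subgroup G), y * s * y⁻¹ ∈ (S : Subgroup G)) (hy1 : y ≠ 1) :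
    Subgroup.normalizer ((S : Subgroup G) : Set G) ≤ K := by
  set N := Subgroup.normalizer ((S : Subgroup G) : Set G) with hN
  -- the kernel of the conjugation action has order at most two
  have hker : Nat.card (conjN (S : Subgroup G)).ker ≤ 2 := by
    have h1 : ∀ g : (conjN (S : Subgroup G)).ker, ((g : N) : G) = 1 ∨ ((g : N) : G) = z := by
      rintro ⟨g, hg⟩
      by_contra hcon
      push Not at hcon
      obtain ⟨i, hi, j, hj, hij⟩ := Q.na
      rw [MonoidHom.mem_ker] at hg
      have h2 : ∀ s ∈ (S : Subgroup G), (g : G) * s = s * g := by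
        intro s hs
        have h3 := conjN_apply (S : Subgroup G) g ⟨s, hs⟩
        rw [hg] at h3
        have h4 : s = (g : G) * s * (g : G)⁻¹ := h3
        rw [eq_mul_inv_iff_mul_eq] at h4
        exact h4.symm
      exact hij (C.ca g hcon.1 hcon.2 i j (h2 i hi) (h2 j hj))
    classical
    have h3 : Function.Injective (fun g : (conjN (S : Subgroup G)).ker => (if ((g : N) : G) = 1 then true else false : Bool)) := by
      intro a b hab
      apply Subtype.ext
      apply Subtype.ext
      rcases h1 a with ha | ha <;> rcases h1 b with hb | hb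
      · rw [ha, hb]
      · exfalso
        simp only [ha, hb, if_true, if_neg C.z1] at hab
        exact absurd hab (by decide)
      · exfalso
        simp only [ha, hb, if_true, if_neg C.z1] at hab
        exact absurd hab (by decide)
      · rw [ha, hb]
    have h4 := Nat.card_le_card_of_injective _ h3
    rwa [Nat.card_eq_fintype_card (α := Bool), Fintype.card_bool] at h4
  -- `|N| ≤ 48` and `8 ∣ |N|`
  have hN48 : Nat.card N ≤ 48 := by
    have h1 := Subgroup.card_mul_index (conjN (S : Subgroup G)).ker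
    rw [Subgroup.index_ker] at h1
    have h2 : Nat.card (conjN (S : Subgroup G)).range ≤ 24 := by
      rw [← card_aut_Q8 e]
      exact Nat.card_le_card_of_injective _ (Subgroup.subtype_injective _)
    rw [← h1]
    calc _ ≤ 2 * 24 := Nat.mul_le_mul hker h2
      _ = 48 := rfl
  have hSN : (S : Subgroup G) ≤ N := Subgroup.le_normalizer
  have hyN : y ∈ N := by
    rw [hN, Subgroup.mem_normalizer_iff]
    intro s
    refine ⟨hyS s, fun h => ?_⟩
    have := norm_inv hyS _ h
    have e1 : y⁻¹ * (y * s * y⁻¹) * y = s := by group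
    rwa [e1] at this
  have hle : (S : Subgroup G) ≤ N ⊓ K := le_inf hSN hSK
  have c1 : Nat.card (S : Subgroup G) * (S : Subgroup G).relIndex (N ⊓ K) = Nat.card (N ⊓ K : Subgroup G) := by
    have := Subgroup.relIndex_mul_relIndex (⊥ : Subgroup G) (S : Subgroup G) (N ⊓ K) bot_le hle
    rwa [Subgroup.relIndex_bot_left, Subgroup.relIndex_bot_left] at this
  have c2 : Nat.card (N ⊓ K : Subgroup G) * (N ⊓ K).relIndex N = Nat.card N := by
    have := Subgroup.relIndex_mul_relIndex (⊥ : Subgroup G) (N ⊓ K) N bot_le inf_le_left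
    rwa [Subgroup.relIndex_bot_left, Subgroup.relIndex_bot_left] at this
  have hod : ∀ L : Subgroup G, (S : Subgroup G) ≤ L → Odd ((S : Subgroup G).relIndex L) := by
    intro L hL
    rw [← Nat.not_even_iff_odd, even_iff_two_dvd]
    intro h
    exact S.not_dvd_index (h.trans (Subgroup.relIndex_dvd_index_of_le hL))
  have h3 : (S : Subgroup G).relIndex (N ⊓ K) ≠ 1 := by
    rw [Ne, Subgroup.relIndex_eq_one]
    intro h
    exact hy1 (eq_one_of_odd_of_two hy S.isPGroup' (h ⟨hyN, hyK⟩))
  have h4 : Odd ((N ⊓ K).relIndex N) := by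
    have h5 := Subgroup.relIndex_mul_relIndex (S : Subgroup G) (N ⊓ K) N hle inf_le_left
    have h6 := hod N hSN
    rw [← h5] at h6
    exact Nat.Odd.of_mul_right h6
  have h5 := hod (N ⊓ K) hle
  rw [Q.card] at c1
  have h6 : (N ⊓ K).relIndex N = 1 := by
    obtain ⟨a, ha⟩ := h4
    obtain ⟨b, hb⟩ := h5
    rw [ha]
    rw [hb] at c1 h3
    rw [ha] at c2
    have hb1 : 1 ≤ b := by omega
    have h7 : 24 ≤ Nat.card (N ⊓ K : Subgroup G) := by rw [← c1]; nlinarith
    by_contra hcon
    have ha1 : 1 ≤ a := by omega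
    have h8 : 24 * 3 ≤ Nat.card N := by
      rw [← c2]
      exact Nat.mul_le_mul h7 (by omega)
    omega
  rw [Subgroup.relIndex_eq_one] at h6
  exact h6.trans inf_le_right

/-- decomposition of an element of the normaliser -/
lemma exists_decomp (S : Sylow 2 G) {n : G} (hn : n ∈ Subgroup.normalizer ((S : Subgroup G) : Set G)) :
    ∃ x : G, ∃ s ∈ (S : Subgroup G), n = x * s ∧ Odd (orderOf x) ∧
      ∀ s ∈ (S : Subgroup G), x * s * x⁻¹ ∈ (S : Subgroup G) := by
  obtain ⟨k, m, hm, hkm⟩ := Nat.exists_eq_two_pow_mul_odd (orderOf_pos n).ne'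
  have h1 : n ^ m ∈ (S : Subgroup G) := by
    have h2 : IsPGroup 2 (Subgroup.zpowers (n ^ m)) := by
      rintro ⟨y, t, rfl⟩
      refine ⟨k, Subtype.ext ?_⟩
      show ((n ^ m) ^ t) ^ 2 ^ k = 1
      rw [← zpow_natCast, ← zpow_mul, mul_comm, zpow_mul]
      have : (n ^ m) ^ ((2 ^ k : ℕ) : ℤ) = 1 := by
        rw [zpow_natCast, ← pow_mul, mul_comm, ← hkm, pow_orderOf_eq_one]
      rw [this, one_zpow]
    have h3 := h2.inf_normalizer_sylow S
    have h4 : n ^ m ∈ Subgroup.zpowers (n ^ m) ⊓ Subgroup.normalizer ((S : Subgroup G) : Set G) :=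
      ⟨Subgroup.mem_zpowers _, pow_mem hn m⟩
    exact (h3.le h4).2
  have hcop : Nat.Coprime (2 ^ k) m := Nat.Coprime.pow_left k ((Nat.coprime_two_left).2 hm)
  have hb : (1 : ℤ) = (2 ^ k : ℕ) * Nat.gcdA (2 ^ k) m + (m : ℕ) * Nat.gcdB (2 ^ k) m := by
    rw [← Nat.gcd_eq_gcd_ab, hcop]; rfl
  have hxe : n = (n ^ 2 ^ k) ^ Nat.gcdA (2 ^ k) m * (n ^ m) ^ Nat.gcdB (2 ^ k) m := by
    rw [← zpow_natCast, ← zpow_natCast, ← zpow_mul, ← zpow_mul, ← zpow_add, ← hb, zpow_one]
  refine ⟨(n ^ 2 ^ k) ^ Nat.gcdA (2 ^ k) m, _, zpow_mem h1 _, hxe, ?_, ?_⟩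
  · refine odd_of_pow hm ?_
    rw [← zpow_natCast, ← zpow_mul, mul_comm, zpow_mul, zpow_natCast, ← pow_mul, ← hkm, pow_orderOf_eq_one, one_zpow]
  · intro s hs
    have h2 : (n ^ 2 ^ k) ^ Nat.gcdA (2 ^ k) m ∈ Subgroup.normalizer ((S : Subgroup G) : Set G) :=
      zpow_mem (pow_mem hn _) _
    exact (Subgroup.mem_normalizer_iff.1 h2 s).1 hs

open scoped Pointwise in
/-- pronormality -/
theorem isPronormal_Q8 (C : CA z) (S : Sylow 2 G) (Q : QS (S : Subgroup G))
    (e : Nonempty ((S : Subgroup G) ≃* QuaternionGroup 2)) {H : Subgroup G} (hSH : (S : Subgroup G) ≤ H) :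
    Cfsg.IsPronormal H := by
  intro g
  set K := H ⊔ H.map (MulAut.conj g).toMonoidHom with hK
  have h1 : (S : Subgroup G) ≤ K := hSH.trans le_sup_left
  have h2 : ((g • S : Sylow 2 G) : Subgroup G) ≤ K := by
    rw [Sylow.coe_subgroup_smul, hK, H37.map_conj_eq_smul]
    exact le_trans (Subgroup.pointwise_smul_le_pointwise_smul_iff.2 hSH) le_sup_right
  obtain ⟨k, hkK, hk'⟩ := H37.exists_conj_mem_of_le S (g • S) h1 h2
  have hn : k⁻¹ * g ∈ Subgroup.normalizer ((S : Subgroup G) : Set G) := by
    have : (k⁻¹ * g) • S = S := by rw [mul_smul, ← hk', inv_smul_smul]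
    exact Sylow.smul_eq_iff_mem_normalizer.1 this
  obtain ⟨x, s, hs, hns, hx, hxS⟩ := exists_decomp S hn
  -- `g H g⁻¹ = (k x) H (k x)⁻¹`
  have hgk : g = k * x * s := by rw [mul_assoc, ← hns]; group
  have hsH : MulAut.conj s • H = H := Subgroup.conj_smul_eq_self_of_mem (hSH hs)
  have hconj : H.map (MulAut.conj g).toMonoidHom = H.map (MulAut.conj (k * x)).toMonoidHom := by
    rw [H37.map_conj_eq_smul, H37.map_conj_eq_smul, hgk, map_mul, mul_smul, hsH]
  by_cases hxK : x ∈ K
  · exact ⟨k * x, mul_mem hkK hxK, hconj⟩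
  · -- `x ∉ K`, so `H = S`
    have hx1 : x ≠ 1 := by rintro rfl; exact hxK (one_mem _)
    have hxn : x ∈ Subgroup.normalizer ((S : Subgroup G) : Set G) := by
      have : x = (k⁻¹ * g) * s⁻¹ := by rw [hns]; group
      rw [this]
      exact mul_mem hn (inv_mem (Subgroup.le_normalizer hs))
    obtain ⟨N, hNK, hN1, hN2, hN3⟩ := exists_compl C S Q h1 (by
      intro y hyK hy hyS
      by_contra hy1
      exact hxK (normalizer_le C S Q e h1 hyK hy hyS hy1 hxn))
    have hNS : NS N (S : Subgroup G) := ⟨fun s hs n hn => hN1 s (h1 hs) n hn, hN2⟩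
    have hHS : H = (S : Subgroup G) := by
      have h3 : IsPGroup 2 H := by
        intro h
        obtain ⟨a, m, hm, ham⟩ := Nat.exists_eq_two_pow_mul_odd (orderOf_pos h).ne'
        refine ⟨a, ?_⟩
        apply Subtype.ext
        show (h : G) ^ 2 ^ a = 1
        have hodd : Odd (orderOf ((h : G) ^ 2 ^ a)) := by
          refine odd_of_pow hm ?_
          rw [← pow_mul, ← ham, ← Subgroup.coe_pow, pow_orderOf_eq_one]; rfl
        have hmem : (h : G) ^ 2 ^ a ∈ H := pow_mem h.2 _
        refine trivial_of_conj C Q hNS S.isPGroup' hx hxS hx1 (hN3 _ (le_sup_left (a := H) hmem) hodd) (hN3 _ ?_ ?_)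
        · -- `x h x⁻¹ ∈ K`
          have h4 : (k * x) * (h : G) ^ 2 ^ a * (k * x)⁻¹ ∈ K := by
            have h5 : (k * x) * (h : G) ^ 2 ^ a * (k * x)⁻¹ ∈ H.map (MulAut.conj g).toMonoidHom := by
              rw [hconj]
              exact ⟨_, hmem, rfl⟩
            exact (le_sup_right : H.map (MulAut.conj g).toMonoidHom ≤ K) h5
          have h5 : x * (h : G) ^ 2 ^ a * x⁻¹ = k⁻¹ * ((k * x) * (h : G) ^ 2 ^ a * (k * x)⁻¹) * k := by group
          rw [h5]
          exact mul_mem (mul_mem (inv_mem hkK) h4) hkK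
        · have h6 : orderOf (x * (h : G) ^ 2 ^ a * x⁻¹) = orderOf ((h : G) ^ 2 ^ a) := by
            have := orderOf_injective (MulAut.conj x).toMonoidHom (MulAut.conj x).injective ((h : G) ^ 2 ^ a)
            simpa using this
          rwa [h6]
      exact (S.is_maximal' h3 hSH)
    refine ⟨k, hkK, ?_⟩
    rw [hconj, H37.map_conj_eq_smul, H37.map_conj_eq_smul, map_mul, mul_smul]
    congr 1
    rw [hHS]
    have : x • S = S := Sylow.smul_eq_iff_mem_normalizer.2 hxn
    have h4 := congrArg (fun T : Sylow 2 G => (T : Subgroup G)) this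
    simpa [Sylow.coe_subgroup_smul] using h4

end abs

section sl

variable {F : Type u} [Field F]

lemma sl_center {g : Matrix.SpecialLinearGroup (Fin 2) F} (hg : (g : Matrix (Fin 2) (Fin 2) F) ∈ Set.range (Matrix.scalar (Fin 2))) :
    g = 1 ∨ g = -1 := by
  obtain ⟨r, hr⟩ := hg
  have h1 := g.2
  rw [← hr, Matrix.det_fin_two] at h1
  have h2 : r * r = 1 := by simpa [Matrix.scalar_apply] using h1
  rcases mul_self_eq_one_iff.1 h2 with h | h
  · left
    apply Subtype.ext
    rw [← hr, h, map_one]; rfl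
  · right
    apply Subtype.ext
    rw [← hr, h, map_neg, map_one]; rfl

theorem ca_sl (h2 : (2 : F) ≠ 0) : CA (-1 : Matrix.SpecialLinearGroup (Fin 2) F) where
  zc g := by rw [neg_mul, one_mul, mul_neg, mul_one]
  zz := by rw [neg_mul_neg, one_mul]
  z1 := by
    intro h
    have h3 := congrFun (congrFun (congrArg Subtype.val h) 0) 0
    have h4 : (-1 : F) = 1 := by simpa using h3
    apply h2
    linear_combination -h4
  inv u hu := by
    by_contra hcon
    have h3 : (u : Matrix (Fin 2) (Fin 2) F) ∉ Set.range (Matrix.scalar (Fin 2)) := fun h => hcon (sl_center h)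
    have h4 : (u : Matrix (Fin 2) (Fin 2) F) * (u : Matrix (Fin 2) (Fin 2) F) = Matrix.scalar (Fin 2) 1 := by
      rw [map_one]; exact congrArg Subtype.val hu
    have h5 := det_of_sq h3 h4
    rw [u.2] at h5
    apply h2
    linear_combination h5
  ca g h1 h3 a b ha hb := by
    have h4 : (g : Matrix (Fin 2) (Fin 2) F) ∉ Set.range (Matrix.scalar (Fin 2)) := fun h => by
      rcases sl_center h with h | h
      · exact h1 h
      · exact h3 h
    apply Subtype.ext
    exact comm2 h4 (congrArg Subtype.val ha) (congrArg Subtype.val hb)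

variable [Fintype F]

theorem isPronormal_PSL2_odd (hodd : Odd (Fintype.card F))
    (H : Subgroup (Matrix.ProjectiveSpecialLinearGroup (Fin 2) F)) (hH : Odd H.index) : Cfsg.IsPronormal H := by
  have h2 : (2 : F) ≠ 0 := by
    intro h
    have h0 : Fintype.card F % 2 = 0 :=
      FiniteField.even_card_iff_char_two.mp (CharP.ringChar_of_prime_eq_zero Nat.prime_two (by exact_mod_cast h))
    obtain ⟨k, hk⟩ := hodd
    omega
  have C := ca_sl h2
  have hπ := QuotientGroup.mk'_surjective (Subgroup.center (Matrix.SpecialLinearGroup (Fin 2) F))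
  apply isPronormal_map (QuotientGroup.mk' (Subgroup.center (Matrix.SpecialLinearGroup (Fin 2) F))) hπ
  obtain ⟨S⟩ : Nonempty (Sylow 2 (Matrix.SpecialLinearGroup (Fin 2) F)) := inferInstance
  apply isPronormal_of_sylow S
  · rw [Subgroup.index_comap_of_surjective _ hπ]; exact not_two_dvd_of_odd hH
  · intro K hK
    obtain ⟨k, hk, ⟨e⟩⟩ := S0261.result hodd S
    by_cases hk2 : 2 ≤ k
    · apply isPronormal_of_norm S K hK
      apply norm_of_central S _ hK
      intro x hx hn
      have hA : IsPGroup 2 (MulAut (S : Subgroup (Matrix.SpecialLinearGroup (Fin 2) F))) :=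
        (S5112.isPGroup_mulAut_quaternion k hk2).of_equiv (MulAut.congr e.symm)
      have h3 := comm_of_aut hA hx hn
      -- `S` is not commutative
      set i := e.symm (QuaternionGroup.a 1) with hi
      set j := e.symm (QuaternionGroup.xa 0) with hj
      have hij : (i : Matrix.SpecialLinearGroup (Fin 2) F) * j ≠ j * i := by
        intro h
        have h4 : i * j = j * i := Subtype.ext h
        rw [hi, hj, ← map_mul, ← map_mul] at h4
        have h5 := e.symm.injective h4
        rw [QuaternionGroup.a_mul_xa, QuaternionGroup.xa_mul_a, QuaternionGroup.xa.injEq] at h5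
        have h6 : ((2 : ℕ) : ZMod (2 * 2 ^ k)) = 0 := by
          push_cast
          linear_combination -h5
        rw [ZMod.natCast_eq_zero_iff] at h6
        have h7 := Nat.le_of_dvd (by norm_num) h6
        have h8 : 2 ^ 2 ≤ 2 ^ k := Nat.pow_le_pow_right (by norm_num) hk2
        omega
      have h4 : x = 1 := by
        apply C.one_of_odd hx
        by_contra hcon
        push Not at hcon
        exact hij (C.ca x hcon.1 hcon.2 i j (h3 i i.2) (h3 j j.2))
      rw [h4]; exact one_mem _
    · have hk1 : k = 1 := by omega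
      subst hk1
      have e' : (S : Subgroup (Matrix.SpecialLinearGroup (Fin 2) F)) ≃* QuaternionGroup 2 := e
      refine isPronormal_Q8 C S ⟨?_, ?_, ?_⟩ ⟨e'⟩ hK
      · rw [Nat.card_congr e'.toEquiv, Nat.card_eq_fintype_card]; rfl
      · intro s hs
        have h3 : ∀ q : QuaternionGroup 2, q ^ 4 = 1 := by decide
        have h4 := h3 (e' ⟨s, hs⟩)
        rw [← map_pow] at h4
        have h5 : (⟨s, hs⟩ : (S : Subgroup (Matrix.SpecialLinearGroup (Fin 2) F))) ^ 4 = 1 :=
          e'.injective (by rw [h4, map_one])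
        exact congrArg Subtype.val h5
      · set i := e'.symm (QuaternionGroup.a 1) with hi
        set j := e'.symm (QuaternionGroup.xa 0) with hj
        refine ⟨i, i.2, j, j.2, fun h => ?_⟩
        have h4 : i * j = j * i := Subtype.ext h
        rw [hi, hj, ← map_mul, ← map_mul] at h4
        have h5 := e'.symm.injective h4
        revert h5
        decide

/-- row S2225 -/
theorem isPronormal_PSL (w : ℕ) (hw : 1 ≤ w)
    (H : Subgroup (Matrix.ProjectiveSpecialLinearGroup (Fin (2 ^ w)) F)) (hH : Odd H.index) : Cfsg.IsPronormal H := by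
  rcases Nat.even_or_odd (Fintype.card F) with hq | hq
  · have h2 : CharP F 2 := by
      have h1 := FiniteField.even_card_iff_char_two.2 (Nat.even_iff.1 hq)
      rw [← h1]; exact ringChar.charP F
    exact isPronormal_PSL_char 2 _ (by positivity) H (not_two_dvd_of_odd hH)
  · by_cases hw2 : 2 ≤ w
    · exact isPronormal_PSL_odd hq hw2 H hH
    · have h1 : w = 1 := by omega
      subst h1
      exact isPronormal_PSL2_odd hq H hH

end sl

end Cfsg.Agent.H95
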