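import Mathlib

set_option autoImplicit false
set_option linter.all false

/-! Klein counting of poles: a finite group acting so that every non-identity element has exactly two
fixed points, with stabilizers of orders divisible by 4 and 3, has order 24 (helper95). -/

namespace Cfsg.Agent.H95.Pole

open MulAction

universe u v

/-- arithmetic with orbit sizes -/
theorem card_of_sizes_ne {ι : Type*} [Fintype ι] [DecidableEq ι] (s : ι → ℕ) {N : ℕ} (hN : 0 < N)
    (hdvd : ∀ i, s i ∣ N) (h2 : ∀ i, 2 * s i ≤ N)
    (hsum : ∑ i, s i + 2 * N = Fintype.card ι * N + 2) {i j : ι} (hij : i ≠ j)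
    (hi6 : 6 ≤ s i) (hi : 4 * s i ∣ N) (hj : 3 * s j ∣ N) : N = 24 := by
  classical
  have hspos : ∀ k, 0 < s k := fun k => Nat.pos_of_dvd_of_pos (hdvd k) hN
  -- split the sum
  set R := Finset.univ.erase i |>.erase j with hR
  have hjmem : j ∈ Finset.univ.erase i := Finset.mem_erase.2 ⟨hij.symm, Finset.mem_univ _⟩
  have hs1 : ∑ k, s k = s i + s j + ∑ k ∈ R, s k := by
    rw [← Finset.add_sum_erase _ _ (Finset.mem_univ i), ← Finset.add_sum_erase _ _ hjmem]
    ring
  have hc : Fintype.card ι = R.card + 2 := by
    have h1 := Finset.card_erase_of_mem hjmem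
    have h2 := Finset.card_erase_of_mem (Finset.mem_univ i)
    have h3 : 0 < (Finset.univ.erase i).card := Finset.card_pos.2 ⟨j, hjmem⟩
    have h4 : 0 < Fintype.card ι := Fintype.card_pos_iff.2 ⟨i⟩
    rw [Finset.card_univ] at h2
    rw [← hR] at h1
    omega
  have hi4 : 4 * s i ≤ N := Nat.le_of_dvd hN hi
  have hj3 : 3 * s j ≤ N := Nat.le_of_dvd hN hj
  have hrest : 2 * ∑ k ∈ R, s k ≤ R.card * N := by
    rw [Finset.mul_sum]
    calc ∑ k ∈ R, 2 * s k ≤ ∑ k ∈ R, N := Finset.sum_le_sum fun k _ => h2 k
      _ = R.card * N := by rw [Finset.sum_const, smul_eq_mul]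
  rw [hs1, hc] at hsum
  have hRc : R.card ≤ 1 := by
    by_contra hcon
    have h4 : 2 ≤ R.card := by omega
    have h5 : (R.card + 2) * N = R.card * N + 2 * N := by ring
    have h6 : 2 * N ≤ R.card * N := Nat.mul_le_mul_right N h4
    omega
  rcases Nat.lt_or_ge R.card 1 with h0 | h1
  · have h0' : R = ∅ := Finset.card_eq_zero.1 (by omega)
    rw [h0'] at hsum
    simp at hsum
    omega
  · have h1' : R.card = 1 := le_antisymm hRc h1
    obtain ⟨k, hk⟩ := Finset.card_eq_one.1 h1'
    rw [hk] at hsum
    simp only [Finset.sum_singleton, Finset.card_singleton] at hsum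
    -- s i + s j + s k + 2 N = 3 N + 2
    have e1 : s i + s j + s k = N + 2 := by omega
    -- 2 s k = N
    obtain ⟨m, hm⟩ := hdvd k
    have hk2 := h2 k
    have hkpos := hspos k
    have hm2 : m = 2 := by
      have hm3 : m < 3 := by
        by_contra hcon
        have h7 : 3 * s k ≤ N := by
          rw [hm, mul_comm]; exact Nat.mul_le_mul_left _ (by omega)
        omega
      have hm4 : 2 ≤ m := by
        by_contra hcon
        have h8 : m ≤ 1 := by omega
        have h9 : N ≤ s k := by rw [hm]; calc s k * m ≤ s k * 1 := Nat.mul_le_mul_left _ h8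
                                        _ = s k := mul_one _
        omega
      omega
    rw [hm2] at hm
    obtain ⟨a, ha⟩ := hi
    obtain ⟨b, hb⟩ := hj
    have ha1 : a = 1 := by
      have hapos : 0 < a := by
        rcases Nat.eq_zero_or_pos a with h | h
        · rw [h] at ha; omega
        · exact h
      by_contra hcon
      have h10 : 8 * s i ≤ N := by
        rw [ha]
        calc 8 * s i = 4 * s i * 2 := by ring
          _ ≤ 4 * s i * a := Nat.mul_le_mul_left _ (by omega)
      omega
    rw [ha1] at ha
    have hb1 : b = 1 := by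
      have hbpos : 0 < b := by
        rcases Nat.eq_zero_or_pos b with h | h
        · rw [h] at hb; omega
        · exact h
      by_contra hcon
      have h10 : 6 * s j ≤ N := by
        rw [hb]
        calc 6 * s j = 3 * s j * 2 := by ring
          _ ≤ 3 * s j * b := Nat.mul_le_mul_left _ (by omega)
      omega
    rw [hb1] at hb
    omega

theorem card_of_sizes_eq {ι : Type*} [Fintype ι] [DecidableEq ι] (s : ι → ℕ) {N : ℕ} (hN : 0 < N)
    (hdvd : ∀ i, s i ∣ N) (h2 : ∀ i, 2 * s i ≤ N)
    (hsum : ∑ i, s i + 2 * N = Fintype.card ι * N + 2) {i : ι}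
    (hi6 : 6 ≤ s i) (hi : 12 * s i ∣ N) : False := by
  classical
  have hspos : ∀ k, 0 < s k := fun k => Nat.pos_of_dvd_of_pos (hdvd k) hN
  set R := Finset.univ.erase i with hR
  have hs1 : ∑ k, s k = s i + ∑ k ∈ R, s k := by
    rw [← Finset.add_sum_erase _ _ (Finset.mem_univ i)]
  have hc : Fintype.card ι = R.card + 1 := by
    have h2 := Finset.card_erase_of_mem (Finset.mem_univ i)
    rw [Finset.card_univ, ← hR] at h2
    have h3 : 0 < Fintype.card ι := Fintype.card_pos_iff.2 ⟨i⟩
    omega
  have hi12 : 12 * s i ≤ N := Nat.le_of_dvd hN hi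
  have hrest : 2 * ∑ k ∈ R, s k ≤ R.card * N := by
    rw [Finset.mul_sum]
    calc ∑ k ∈ R, 2 * s k ≤ ∑ k ∈ R, N := Finset.sum_le_sum fun k _ => h2 k
      _ = R.card * N := by rw [Finset.sum_const, smul_eq_mul]
  rw [hs1, hc] at hsum
  have h5 : (R.card + 1) * N = R.card * N + N := by ring
  have hRc : R.card ≤ 2 := by
    by_contra hcon
    have h4 : 3 ≤ R.card := by omega
    have h6 : 3 * N ≤ R.card * N := Nat.mul_le_mul_right N h4
    omega
  rcases Nat.lt_or_ge R.card 2 with h0 | h1
  · have h6 : R.card * N ≤ 1 * N := Nat.mul_le_mul_right N (by omega)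
    rcases Nat.lt_or_ge R.card 1 with h00 | h01
    · have h0' : R = ∅ := Finset.card_eq_zero.1 (by omega)
      rw [h0'] at hsum
      simp at hsum
      omega
    · have h1' : R.card = 1 := by omega
      rw [h1'] at hsum
      omega
  · have h1' : R.card = 2 := le_antisymm hRc h1
    obtain ⟨k, l, hkl, hk⟩ := Finset.card_eq_two.1 h1'
    rw [hk, Finset.sum_pair hkl, Finset.card_pair hkl] at hsum
    have e1 : s i + (s k + s l) = N + 2 := by omega
    have third : ∀ k : ι, s k * 2 ≠ N → 3 * s k ≤ N := by
      intro k hk2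
      obtain ⟨m, hm⟩ := hdvd k
      have hkk := h2 k
      have hkpos := hspos k
      have hm3 : 3 ≤ m := by
        by_contra hcon
        interval_cases m
        · omega
        · omega
        · exact hk2 hm.symm
      rw [hm, mul_comm]
      exact Nat.mul_le_mul_left _ hm3
    by_cases hk2 : s k * 2 = N
    · by_cases hl2 : s l * 2 = N
      · omega
      · have := third l hl2
        omega
    · have := third k hk2
      have := h2 l
      omega

/-- Klein's count: order 24. -/
theorem card_eq_24 {X : Type u} [Group X] [Finite X] {P : Type v} [Finite P] [MulAction X P]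
    (h2 : ∀ g : X, g ≠ 1 → Nat.card (fixedBy P g) = 2)
    (hst : ∀ v : P, stabilizer X v ≠ ⊥)
    (e w : P) (he : 4 ∣ Nat.card (stabilizer X e)) (hw : 3 ∣ Nat.card (stabilizer X w))
    (he6 : 6 ≤ Nat.card (orbit X e)) : Nat.card X = 24 := by
  classical
  haveI := Fintype.ofFinite X
  haveI := Fintype.ofFinite P
  haveI : Fintype (Quotient (orbitRel X P)) := Fintype.ofFinite _
  set N := Nat.card X with hNdef
  have hN : 0 < N := Nat.card_pos
  let s : Quotient (orbitRel X P) → ℕ := fun q => Nat.card (orbitRel.Quotient.orbit q)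
  have horb : ∀ v : P, Nat.card (orbit X v) * Nat.card (stabilizer X v) = N := fun v => by
    rw [hNdef, ← Nat.card_prod]
    exact Nat.card_congr (orbitProdStabilizerEquivGroup X v)
  have hs : ∀ v : P, s (Quotient.mk'' v) = Nat.card (orbit X v) := fun v => by
    show Nat.card (orbitRel.Quotient.orbit (Quotient.mk'' v : orbitRel.Quotient X P)) = _
    rw [orbitRel.Quotient.orbit_mk]
  have hdvd : ∀ q, s q ∣ N := by
    intro q
    induction q using Quotient.inductionOn' with
    | h v => rw [hs v]; exact ⟨_, (horb v).symm⟩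
  have hle : ∀ q, 2 * s q ≤ N := by
    intro q
    induction q using Quotient.inductionOn' with
    | h v =>
      rw [hs v, ← horb v, mul_comm]
      apply Nat.mul_le_mul_left
      have h1 : 1 < Nat.card (stabilizer X v) := by
        haveI : Nontrivial (stabilizer X v) := (Subgroup.nontrivial_iff_ne_bot _).2 (hst v)
        exact Finite.one_lt_card
      exact h1
  have hcardP : Nat.card P = ∑ q, s q := by
    have h1 : Nat.card P = Nat.card (Σ q : Quotient (orbitRel X P), orbitRel.Quotient.orbit q) :=
      Nat.card_congr (selfEquivSigmaOrbits' X P)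
    rw [h1, Nat.card_sigma]
  have hburn : Nat.card P + 2 * N = Fintype.card (Quotient (orbitRel X P)) * N + 2 := by
    have h1 := sum_card_fixedBy_eq_card_orbits_mul_card_group X P
    have h3 : ∑ g : X, Fintype.card (fixedBy P g) = Nat.card P + (N - 1) * 2 := by
      rw [← Finset.add_sum_erase _ _ (Finset.mem_univ (1 : X))]
      congr 1
      · rw [← Nat.card_eq_fintype_card]
        apply Nat.card_congr
        exact (Equiv.setCongr (by ext v; simp [fixedBy])).trans (Equiv.Set.univ P)
      · rw [Finset.sum_congr rfl (g := fun _ => 2), Finset.sum_const, smul_eq_mul,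
          Finset.card_erase_of_mem (Finset.mem_univ _), Finset.card_univ, ← Nat.card_eq_fintype_card]
        intro g hg
        rw [← Nat.card_eq_fintype_card]
        exact h2 g (Finset.ne_of_mem_erase hg)
    rw [h3, ← Nat.card_eq_fintype_card (α := X)] at h1
    have : (N - 1) * 2 + 2 = 2 * N := by omega
    rw [← hNdef] at h1
    omega
  rw [hcardP] at hburn
  have he4 : 4 * s (Quotient.mk'' e) ∣ N := by
    rw [hs e, ← horb e, mul_comm 4]
    exact Nat.mul_dvd_mul_left _ he
  have hw3 : 3 * s (Quotient.mk'' w) ∣ N := by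
    rw [hs w, ← horb w, mul_comm 3]
    exact Nat.mul_dvd_mul_left _ hw
  by_cases hew : (Quotient.mk'' e : Quotient (orbitRel X P)) = Quotient.mk'' w
  · exfalso
    refine card_of_sizes_eq s hN hdvd hle hburn (i := Quotient.mk'' e) (by rw [hs e]; exact he6) ?_
    -- stabilizers have the same order
    have h5 : Nat.card (stabilizer X e) = Nat.card (stabilizer X w) := by
      have h6 : Nat.card (orbit X e) = Nat.card (orbit X w) := by rw [← hs e, ← hs w, hew]
      have h7 := horb e
      have h8 := horb w
      rw [h6] at h7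
      have h9 : 0 < Nat.card (orbit X w) := Nat.card_pos_iff.2 ⟨⟨⟨w, mem_orbit_self w⟩⟩, inferInstance⟩
      exact Nat.eq_of_mul_eq_mul_left h9 (h7.trans h8.symm)
    have h10 : 12 ∣ Nat.card (stabilizer X e) :=
      Nat.Coprime.mul_dvd_of_dvd_of_dvd (by norm_num : Nat.Coprime 4 3) he (by rw [h5]; exact hw)
    rw [hs e, ← horb e, mul_comm 12]
    exact Nat.mul_dvd_mul_left _ h10
  · exact card_of_sizes_ne s hN hdvd hle hburn hew (by rw [hs e]; exact he6) he4 hw3

end Cfsg.Agent.H95.Pole
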