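import Cfsg.Agent.Uni36.Tits
import Cfsg.Agent.H37.Pronormal
import Cfsg.Agent.ClRG.Gen

set_option autoImplicit false
set_option linter.unusedSectionVars false

/-!
Overgroups of `U` in a group with a split BN-pair and commutative torus are normalised by the Borel subgroup;
so they are pronormal.
-/

namespace Cfsg.Agent.H95

open Cfsg.Agent.ChevGrp Cfsg.Agent.ChevGrp.RGrp Cfsg.Agent.ChevWeyl Cfsg.Agent.AutChev
open scoped Pointwise

universe u

variable {l n : ℕ} {S : WSys l n} {G : Type u} [Group G] {R : RGrp S G}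

/-- representative of a simple reflection in the rank one group -/
lemma exists_rep (R : RGrp S G) (j : Fin l) :
    ∃ k ∈ R.H, R.nn j * k ∈ R.X (S.p j) ⊔ R.X (S.neg (S.p j)) := by
  obtain ⟨y, hy, hy1⟩ := exists_X_ne (R := R) (S.neg (S.p j))
  obtain ⟨a, ha, k, hk, b, hb, e⟩ := R.rank1 j y hy hy1
  refine ⟨k, hk, ?_⟩
  have h1 : R.nn j * k = a⁻¹ * y * b⁻¹ := by rw [e]; group
  rw [h1]
  exact mul_mem (mul_mem (inv_mem (Subgroup.mem_sup_left ha)) (Subgroup.mem_sup_right hy))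
    (inv_mem (Subgroup.mem_sup_left hb))

lemma conj_rank1 (R : RGrp S G) (j : Fin l) {t : G} (ht : t ∈ R.H) {x : G}
    (hx : x ∈ R.X (S.p j) ⊔ R.X (S.neg (S.p j))) : t * x * t⁻¹ ∈ R.X (S.p j) ⊔ R.X (S.neg (S.p j)) := by
  have h1 : R.X (S.p j) ⊔ R.X (S.neg (S.p j)) ≤
      (R.X (S.p j) ⊔ R.X (S.neg (S.p j))).comap (MulAut.conj t).toMonoidHom := by
    refine sup_le ?_ ?_
    · intro y hy
      exact Subgroup.mem_sup_left (R.H_X t ht _ y hy)
    · intro y hy
      exact Subgroup.mem_sup_right (R.H_X t ht _ y hy)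
  exact h1 hx

/-- every subgroup containing `U` is normalised by the torus -/
theorem conj_mem_of_U_le (hG : R.Grp = ⊤) (hH : ∀ a ∈ R.H, ∀ b ∈ R.H, a * b = b * a) {M : Subgroup G}
    (hM : R.U ≤ M) {t : G} (ht : t ∈ R.H) {m : G} (hm : m ∈ M) : t * m * t⁻¹ ∈ M := by
  have hU : ∀ v ∈ R.U, t * v * t⁻¹ ∈ M := fun v hv => hM (B_norm_U (R.H_le_B ht) v hv)
  have key : ∀ k, ∀ g ∈ R.N, g ∈ M → ∀ u, R.Act g u → S.N u = k → t * g * t⁻¹ ∈ M := by
    intro k
    induction k using Nat.strong_induction_on with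
    | _ k ih =>
      intro g hgN hgM u hu hk
      by_cases hu1 : u = 1
      · subst hu1
        have h1 : g ∈ R.H := mem_H_of_act_one hgN hu
        rw [hH t ht g h1]
        simpa using hgM
      · obtain ⟨j, hj⟩ := S.descent u hu.1 hu1
        have hjM : R.X (S.neg (S.p j)) ≤ M := by
          intro y hy
          have h1 : S.Pos (S.neg (u (S.p j))) := (S.pos_neg_iff _).2 hj
          have h2 : g * y * g⁻¹ ∈ R.X (S.neg (u (S.p j))) := by
            have := hu.conj hy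
            rwa [S.W_neg hu.1] at this
          have h3 := hM (R.X_le_U h1 h2)
          have e : y = g⁻¹ * (g * y * g⁻¹) * g := by group
          rw [e]
          exact mul_mem (mul_mem (inv_mem hgM) h3) hgM
        have hL : R.X (S.p j) ⊔ R.X (S.neg (S.p j)) ≤ M := sup_le ((R.X_le_U (S.pos_p j)).trans hM) hjM
        obtain ⟨k', hk', h2⟩ := exists_rep R j
        have hN := S.N_neg hu.1 hj
        have hm : R.Act (g * (R.nn j * k')⁻¹) (u * S.w j) := by
          have := hu.mul ((act_nn (R := R) j).mul (act_H hk')).inv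
          rwa [mul_one, S.w_inv] at this
        have h3 := ih (S.N (u * S.w j)) (by omega) (g * (R.nn j * k')⁻¹)
          (mul_mem hgN (inv_mem (mul_mem (R.nn_mem_N j) (R.H_le_N hk')))) (mul_mem hgM (inv_mem (hL h2))) _ hm rfl
        have h4 := hL (conj_rank1 R j ht h2)
        have e : t * g * t⁻¹ = t * (g * (R.nn j * k')⁻¹) * t⁻¹ * (t * (R.nn j * k') * t⁻¹) := by group
        rw [e]
        exact mul_mem h3 h4
  obtain ⟨b, hb, g, hg, b', hb', e⟩ := exists_bnb (R := R) (g := m) (by rw [hG]; trivial)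
  obtain ⟨v, hv, k, hk, rfl⟩ := mem_B.1 hb
  obtain ⟨k', hk', v', hv', rfl⟩ := mem_B'.1 hb'
  obtain ⟨g', hg'⟩ : ∃ g', g' = k * g * k' := ⟨_, rfl⟩
  have hg'N : g' ∈ R.N := by rw [hg']; exact mul_mem (mul_mem (R.H_le_N hk) hg) (R.H_le_N hk')
  have e2 : m = v * g' * v' := by rw [e, hg']; group
  have hg'M : g' ∈ M := by
    have : g' = v⁻¹ * m * v'⁻¹ := by rw [e2]; group
    rw [this]
    exact mul_mem (mul_mem (inv_mem (hM hv)) hm) (inv_mem (hM hv'))
  obtain ⟨u, hu⟩ := exists_act hg'N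
  have e3 : t * m * t⁻¹ = (t * v * t⁻¹) * (t * g' * t⁻¹) * (t * v' * t⁻¹) := by rw [e2]; group
  rw [e3]
  exact mul_mem (mul_mem (hU v hv) (key _ g' hg'N hg'M u hu rfl)) (hU v' hv')

/-- the normaliser of `U` is the Borel subgroup -/
theorem mem_B_of_norm_U (hG : R.Grp = ⊤) {g : G} (hg : ∀ x ∈ R.U, g * x * g⁻¹ ∈ R.U) : g ∈ R.B := by
  obtain ⟨b, hb, m, hm, b', hb', e⟩ := exists_bnb (R := R) (g := g) (by rw [hG]; trivial)
  obtain ⟨u, hu⟩ := exists_act hm
  have hmU : ∀ x ∈ R.U, m * x * m⁻¹ ∈ R.U := by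
    intro x hx
    have h1 := hg _ (B_norm_U (inv_mem hb') x hx)
    have h2 := B_norm_U (inv_mem hb) _ h1
    have e2 : b⁻¹ * (g * (b'⁻¹ * x * b'⁻¹⁻¹) * g⁻¹) * b⁻¹⁻¹ = m * x * m⁻¹ := by rw [e]; group
    rwa [e2] at h2
  by_cases hu1 : u = 1
  · subst hu1
    rw [e]
    exact mul_mem (mul_mem hb (R.H_le_B (mem_H_of_act_one hm hu))) hb'
  · exfalso
    obtain ⟨j, hj⟩ := S.descent u hu.1 hu1
    obtain ⟨x, hx, hx1⟩ := exists_X_ne (R := R) (S.p j)
    have h1 := hmU x (R.X_le_U (S.pos_p j) hx)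
    have h2 := R.X_le_V hj (hu.conj hx)
    have h3 := R.U_inf_V h1 h2
    apply hx1
    have e3 : x = m⁻¹ * (m * x * m⁻¹) * m := by group
    rw [e3, h3]; group

/-- general criterion of pronormality: `N(S)` normalises `H` -/
theorem isPronormal_of_norm [Finite G] {p : ℕ} [Fact p.Prime]
    (S : Sylow p G) (H : Subgroup G) (hSH : (S : Subgroup G) ≤ H)
    (hS : ∀ x ∈ Subgroup.normalizer ((S : Subgroup G) : Set G), ∀ h ∈ H, x * h * x⁻¹ ∈ H) : Cfsg.IsPronormal H := by
  intro g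
  have h1 : (S : Subgroup G) ≤ H ⊔ H.map (MulAut.conj g).toMonoidHom := hSH.trans le_sup_left
  have h2 : ((g • S : Sylow p G) : Subgroup G) ≤ H ⊔ H.map (MulAut.conj g).toMonoidHom := by
    rw [Sylow.coe_subgroup_smul, H37.map_conj_eq_smul]
    exact le_trans (Subgroup.pointwise_smul_le_pointwise_smul_iff.2 hSH) le_sup_right
  obtain ⟨k, hkK, hk'⟩ := H37.exists_conj_mem_of_le S (g • S) h1 h2
  refine ⟨k, hkK, ?_⟩
  have hn : k⁻¹ * g ∈ Subgroup.normalizer ((S : Subgroup G) : Set G) := by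
    have : (k⁻¹ * g) • S = S := by rw [mul_smul, ← hk', inv_smul_smul]
    exact Sylow.smul_eq_iff_mem_normalizer.1 this
  rw [H37.map_conj_eq_smul, H37.map_conj_eq_smul]
  have h3 : MulAut.conj (k⁻¹ * g) • H = H := by
    ext y
    rw [Subgroup.mem_pointwise_smul_iff_inv_smul_mem]
    have : (MulAut.conj (k⁻¹ * g))⁻¹ • y = (k⁻¹ * g)⁻¹ * y * (k⁻¹ * g) := by
      rw [← map_inv]; simp [mul_assoc]
    rw [this]
    constructor
    · intro hy
      have := hS _ hn _ hy
      have e : k⁻¹ * g * ((k⁻¹ * g)⁻¹ * y * (k⁻¹ * g)) * (k⁻¹ * g)⁻¹ = y := by group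
      rwa [e] at this
    · intro hy
      have := hS _ (inv_mem hn) _ hy
      rwa [inv_inv] at this
  calc MulAut.conj g • H = MulAut.conj k • (MulAut.conj (k⁻¹ * g) • H) := by
        rw [← mul_smul, ← map_mul]; congr 2; group
    _ = MulAut.conj k • H := by rw [h3]

/-- pronormality may be checked on a conjugate -/
theorem isPronormal_conj {H : Subgroup G} (a : G) (h : Cfsg.IsPronormal (H.map (MulAut.conj a).toMonoidHom)) :
    Cfsg.IsPronormal H := by
  intro g
  obtain ⟨x, hx, e⟩ := h (a * g * a⁻¹)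
  simp only [H37.map_conj_eq_smul] at *
  refine ⟨a⁻¹ * x * a, ?_, ?_⟩
  · have h1 : MulAut.conj a • (H ⊔ MulAut.conj g • H) =
        MulAut.conj a • H ⊔ MulAut.conj (a * g * a⁻¹) • MulAut.conj a • H := by
      rw [Subgroup.smul_sup, ← mul_smul, ← mul_smul, ← map_mul, ← map_mul]
      have e1 : a * g * a⁻¹ * a = a * g := by group
      rw [e1]
    rw [← h1] at hx
    rw [Subgroup.mem_pointwise_smul_iff_inv_smul_mem] at hx
    have : (MulAut.conj a)⁻¹ • x = a⁻¹ * x * a := by rw [← map_inv]; simp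
    rwa [this] at hx
  · have h1 : MulAut.conj (a⁻¹) • (MulAut.conj (a * g * a⁻¹) • MulAut.conj a • H) =
        MulAut.conj (a⁻¹) • (MulAut.conj x • MulAut.conj a • H) := by rw [e]
    simp only [← mul_smul, ← map_mul] at h1
    have e1 : a⁻¹ * (a * g * a⁻¹ * a) = g := by group
    have e2 : a⁻¹ * (x * a) = a⁻¹ * x * a := by group
    rw [e1, e2] at h1
    exact h1

/-- odd index subgroups: reduction to the ones containing a fixed Sylow subgroup -/
theorem isPronormal_of_sylow [Finite G] {p : ℕ} [Fact p.Prime] (S : Sylow p G) {H : Subgroup G} (hH : ¬ p ∣ H.index)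
    (h : ∀ K : Subgroup G, (S : Subgroup G) ≤ K → Cfsg.IsPronormal K) : Cfsg.IsPronormal H := by
  -- a conjugate of `H` contains `S`
  obtain ⟨c, hc⟩ := S.isPGroup'.nonempty_fixed_point_of_prime_not_dvd_card (α := G ⧸ H) (by
    rwa [← Subgroup.index_eq_card])
  obtain ⟨g, rfl⟩ := QuotientGroup.mk_surjective c
  have hS : ∀ x ∈ (S : Subgroup G), g⁻¹ * x * g ∈ H := by
    intro x hx
    have h1 := hc ⟨x, hx⟩
    have h2 : ((x * g : G) : G ⧸ H) = (g : G ⧸ H) := h1
    rw [QuotientGroup.eq] at h2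
    have h3 := inv_mem h2
    have e : ((x * g)⁻¹ * g)⁻¹ = g⁻¹ * x * g := by group
    rwa [e] at h3
  apply isPronormal_conj g
  apply h
  intro x hx
  refine ⟨g⁻¹ * x * g, hS x hx, ?_⟩
  simp [mul_assoc]

/-- image under a surjective homomorphism -/
theorem isPronormal_map {G' : Type u} [Group G'] (f : G →* G') (hf : Function.Surjective f) {H : Subgroup G'}
    (h : Cfsg.IsPronormal (H.comap f)) : Cfsg.IsPronormal H := by
  intro g'
  obtain ⟨g, rfl⟩ := hf g'
  obtain ⟨x, hx, e⟩ := h g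
  have hH : (H.comap f).map f = H := Subgroup.map_comap_eq_self_of_surjective hf H
  have hc : ∀ y : G, ((H.comap f).map (MulAut.conj y).toMonoidHom).map f = H.map (MulAut.conj (f y)).toMonoidHom := by
    intro y
    conv_rhs => rw [← hH]
    rw [Subgroup.map_map, Subgroup.map_map]
    congr 1
    ext z
    simp
  refine ⟨f x, ?_, ?_⟩
  · have := Subgroup.mem_map_of_mem f hx
    rwa [Subgroup.map_sup, hc, hH] at this
  · rw [← hc, e, hc]

/-- odd index subgroups of groups with a BN-pair (defining characteristic) -/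
theorem isPronormal_BN [Finite G] (hG : R.Grp = ⊤) (hH : ∀ a ∈ R.H, ∀ b ∈ R.H, a * b = b * a) (p : ℕ) [Fact p.Prime]
    (P : Sylow p G) (hP : (P : Subgroup G) = R.U) {H : Subgroup G} (hi : ¬ p ∣ H.index) : Cfsg.IsPronormal H := by
  apply isPronormal_of_sylow P hi
  intro K hK
  apply isPronormal_of_norm P K hK
  intro x hx k hk
  rw [hP] at hK hx
  have hxB : x ∈ R.B := mem_B_of_norm_U hG fun y hy => by
    have := (Subgroup.mem_normalizer_iff.1 hx y).1 hy
    exact this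
  obtain ⟨v, hv, t, ht, rfl⟩ := mem_B.1 hxB
  have h1 := conj_mem_of_U_le hG hH hK ht hk
  have e : v * t * k * (v * t)⁻¹ = v * (t * k * t⁻¹) * v⁻¹ := by group
  rw [e]
  exact mul_mem (mul_mem (hK hv) h1) (inv_mem (hK hv))

end Cfsg.Agent.H95
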