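import Cfsg.Agent.H95.SpStrong
import Cfsg.Agent.H53.SEASp

set_option autoImplicit false
set_option linter.unusedSectionVars false

/-!
Strong pronormality for the symplectic groups.
-/

namespace Cfsg.Agent.H95.SpT

universe u v w

open Matrix

section card

variable {F : Type u} [Field F] [Finite F] {V : Type v} [AddCommGroup V] [Module F V] {B : LinearMap.BilinForm F V}
  {G : Type w} [Group G] [DistribMulAction G V] [SMulCommClass G F V] {n : ℕ}
  [FaithfulSMul G V] (I : Isom B G) (X : Frm B G n)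

include I in
lemma card_SS (Q : Subgroup (SpecialLinearGroup (Fin 2) F)) (T : Subgroup (Equiv.Perm (Fin n))) :
    Nat.card (SS X Q T) = Nat.card Q ^ n * Nat.card T := by
  have h1 : Nat.card ((Fin n → Q) × T) = Nat.card Q ^ n * Nat.card T := by
    rw [Nat.card_prod, Nat.card_pi, Finset.prod_const, Finset.card_univ, Fintype.card_fin]
  rw [← h1]
  symm
  apply Nat.card_congr
  refine Equiv.ofBijective (fun p => ⟨X.e (fun i => (p.1 i : SpecialLinearGroup (Fin 2) F)) * X.s p.2,
    _, _, fun i => (p.1 i).2, p.2.2, rfl⟩) ⟨?_, ?_⟩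
  · rintro ⟨v, τ⟩ ⟨v', τ'⟩ h
    obtain ⟨h2, h3⟩ := X.es_inj I (congrArg Subtype.val h)
    refine Prod.ext ?_ (Subtype.ext h3)
    funext i
    exact Subtype.ext (congrFun h2 i)
  · rintro ⟨_, v, τ, hv, hτ, rfl⟩
    exact ⟨⟨fun i => ⟨v i, hv i⟩, ⟨τ, hτ⟩⟩, rfl⟩

end card

section sp

variable {F : Type u} [Field F] {n : ℕ}

/-- the natural action -/
@[reducible] def spAct : DistribMulAction (symplecticGroup (Fin n) F) (Fin n ⊕ Fin n → F) where
  smul g v := (g : Matrix (Fin n ⊕ Fin n) (Fin n ⊕ Fin n) F) *ᵥ v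
  one_smul v := by show (1 : Matrix (Fin n ⊕ Fin n) (Fin n ⊕ Fin n) F) *ᵥ v = v; rw [one_mulVec]
  mul_smul g h v := by
    show ((g : Matrix (Fin n ⊕ Fin n) (Fin n ⊕ Fin n) F) * (h : Matrix (Fin n ⊕ Fin n) (Fin n ⊕ Fin n) F)) *ᵥ v = _
    rw [← mulVec_mulVec]; rfl
  smul_zero g := mulVec_zero _
  smul_add g v w := mulVec_add _ _ _

attribute [local instance] spAct

lemma smul_def' (g : symplecticGroup (Fin n) F) (v : Fin n ⊕ Fin n → F) :
    g • v = (g : Matrix (Fin n ⊕ Fin n) (Fin n ⊕ Fin n) F) *ᵥ v := rfl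

instance spComm : SMulCommClass (symplecticGroup (Fin n) F) F (Fin n ⊕ Fin n → F) :=
  ⟨fun g c v => by
    rw [smul_def', smul_def']
    exact Matrix.mulVec_smul (g : Matrix (Fin n ⊕ Fin n) (Fin n ⊕ Fin n) F) c v⟩

instance spFaith : FaithfulSMul (symplecticGroup (Fin n) F) (Fin n ⊕ Fin n → F) :=
  ⟨fun {g h} hgh => by
    apply Subtype.ext
    apply Matrix.toLin'.injective
    apply LinearMap.ext
    intro v
    rw [Matrix.toLin'_apply, Matrix.toLin'_apply]
    exact hgh v⟩

/-- the form -/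
noncomputable def spB (F : Type u) [Field F] (n : ℕ) : LinearMap.BilinForm F (Fin n ⊕ Fin n → F) :=
  Matrix.toBilin' (-(J (Fin n) F))

lemma spB_apply (u v : Fin n ⊕ Fin n → F) :
    spB F n u v = ∑ i, (u (Sum.inl i) * v (Sum.inr i) - u (Sum.inr i) * v (Sum.inl i)) := by
  rw [spB, Matrix.toBilin'_apply', Matrix.neg_mulVec, J, dotProduct, Fintype.sum_sum_type, Finset.sum_sub_distrib,
    sub_eq_add_neg, ← Finset.sum_neg_distrib]
  congr 1
  · apply Finset.sum_congr rfl
    intro i _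
    have h1 : (fromBlocks (0 : Matrix (Fin n) (Fin n) F) (-1 : Matrix (Fin n) (Fin n) F) (1 : Matrix (Fin n) (Fin n) F) (0 : Matrix (Fin n) (Fin n) F) *ᵥ v) (Sum.inl i) = - v (Sum.inr i) := by
      rw [Matrix.fromBlocks_mulVec]
      simp [Matrix.neg_mulVec]
    rw [Pi.neg_apply, h1, neg_neg]
  · apply Finset.sum_congr rfl
    intro i _
    have h1 : (fromBlocks (0 : Matrix (Fin n) (Fin n) F) (-1 : Matrix (Fin n) (Fin n) F) (1 : Matrix (Fin n) (Fin n) F) (0 : Matrix (Fin n) (Fin n) F) *ᵥ v) (Sum.inr i) = v (Sum.inl i) := by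
      rw [Matrix.fromBlocks_mulVec]
      simp
    rw [Pi.neg_apply, h1, mul_neg]

lemma spB_inv (g : symplecticGroup (Fin n) F) (u v : Fin n ⊕ Fin n → F) : spB F n (g • u) (g • v) = spB F n u v := by
  rw [smul_def', smul_def', spB, Matrix.toBilin'_apply', Matrix.toBilin'_apply', Matrix.neg_mulVec, Matrix.neg_mulVec,
    dotProduct_neg, dotProduct_neg, mulVec_mulVec, Matrix.dotProduct_mulVec, ← Matrix.vecMul_transpose,
    Matrix.vecMul_vecMul, ← Matrix.dotProduct_mulVec, ← Matrix.mul_assoc, SymplecticGroup.mem_iff'.1 g.2]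

lemma spI (h2 : (2 : F) ≠ 0) : Isom (spB F n) (symplecticGroup (Fin n) F) := by
  refine ⟨h2, fun v => ?_, spB_inv⟩
  rw [spB_apply]
  apply Finset.sum_eq_zero
  intro i _
  ring

lemma colinl (M : Matrix (Fin n ⊕ Fin n) (Fin n ⊕ Fin n) F) (j : Fin n ⊕ Fin n) (k : Fin n ⊕ Fin n) :
    (M *ᵥ (Pi.single j 1)) k = M k j := by
  rw [Matrix.mulVec_single_one]; rfl

/-- the frame -/
noncomputable def spX (F : Type u) [Field F] (n : ℕ) : Frm (spB F n) (symplecticGroup (Fin n) F) n where
  e := H53.SEA.spHom n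
  s := H53.SEA.spPerm n
  a i := Pi.single (Sum.inl i) 1
  b i := Pi.single (Sum.inr i) 1
  aa i j := by
    rw [spB_apply]
    apply Finset.sum_eq_zero
    intro k _
    simp
  bb i j := by
    rw [spB_apply]
    apply Finset.sum_eq_zero
    intro k _
    simp
  ab i j := by
    rw [spB_apply, Finset.sum_eq_single i]
    · by_cases h : i = j
      · subst h; simp
      · simp [h]
    · intro k _ hk
      simp [hk]
    · intro h; exact absurd (Finset.mem_univ _) h
  span w := by
    have hb : ∀ i, spB F n w (Pi.single (Sum.inr i) 1) = w (Sum.inl i) := by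
      intro i
      rw [spB_apply, Finset.sum_eq_single i]
      · simp
      · intro k _ hk
        simp [hk]
      · intro h; exact absurd (Finset.mem_univ _) h
    have ha : ∀ i, spB F n w (Pi.single (Sum.inl i) 1) = - w (Sum.inr i) := by
      intro i
      rw [spB_apply, Finset.sum_eq_single i]
      · simp
      · intro k _ hk
        simp [hk]
      · intro h; exact absurd (Finset.mem_univ _) h
    funext k
    rw [Finset.sum_apply]
    rcases k with k | k
    · rw [Finset.sum_eq_single k]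
      · simp [hb, ha]
      · intro i _ hi
        simp [Ne.symm hi]
      · intro h; exact absurd (Finset.mem_univ _) h
    · rw [Finset.sum_eq_single k]
      · simp [hb, ha]
      · intro i _ hi
        simp [Ne.symm hi]
      · intro h; exact absurd (Finset.mem_univ _) h
  ea v i := by
    rw [smul_def']
    funext k
    show (H53.SEA.spMat n (fun i => (v i : Matrix (Fin 2) (Fin 2) F)) *ᵥ (Pi.single (Sum.inl i) 1)) k = _
    rw [colinl, H53.SEA.spMat]
    rcases k with k | k
    · by_cases h : k = i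
      · subst h; simp
      · simp [h]
    · by_cases h : k = i
      · subst h; simp
      · simp [h]
  eb v i := by
    rw [smul_def']
    funext k
    show (H53.SEA.spMat n (fun i => (v i : Matrix (Fin 2) (Fin 2) F)) *ᵥ (Pi.single (Sum.inr i) 1)) k = _
    rw [colinl, H53.SEA.spMat]
    rcases k with k | k
    · by_cases h : k = i
      · subst h; simp
      · simp [h]
    · by_cases h : k = i
      · subst h; simp
      · simp [h]
  sa τ i := by
    rw [smul_def']
    funext k
    show (fromBlocks (H53.SEA.pm F τ) 0 0 (H53.SEA.pm F τ) *ᵥ (Pi.single (Sum.inl i) 1)) k = _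
    rw [colinl]
    rcases k with k | k
    · rw [fromBlocks_apply₁₁, H53.SEA.pm_apply]
      by_cases h : k = τ i
      · subst h; simp
      · simp [h]
    · simp
  sb τ i := by
    rw [smul_def']
    funext k
    show (fromBlocks (H53.SEA.pm F τ) 0 0 (H53.SEA.pm F τ) *ᵥ (Pi.single (Sum.inr i) 1)) k = _
    rw [colinl]
    rcases k with k | k
    · simp
    · rw [fromBlocks_apply₂₂, H53.SEA.pm_apply]
      by_cases h : k = τ i
      · subst h; simp
      · simp [h]

lemma spB_nd (h2 : (2 : F) ≠ 0) : (spB F n).Nondegenerate := by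
  have h1 : ∀ x, (∀ y, spB F n x y = 0) → x = 0 := by
    intro x hx
    rw [(spX F n).span x]
    apply Finset.sum_eq_zero
    intro i _
    rw [hx, hx]; simp
  refine ⟨h1, ?_⟩
  intro y hy
  apply h1
  intro x
  rw [(spI h2).neg, hy, neg_zero]

theorem sp_sylow [Fintype F] (hF : Odd (Fintype.card F)) (h2 : (2 : F) ≠ 0) (Q : Sylow 2 (SpecialLinearGroup (Fin 2) F))
    (T : Sylow 2 (Equiv.Perm (Fin n))) :
    ∃ S0 : Sylow 2 (symplecticGroup (Fin n) F), (S0 : Subgroup (symplecticGroup (Fin n) F)) =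
      SS (spX F n) (Q : Subgroup _) (T : Subgroup _) := by
  have hq1 : 1 < Fintype.card F := Fintype.one_lt_card
  have hc : Nat.card (SS (spX F n) (Q : Subgroup (SpecialLinearGroup (Fin 2) F)) (T : Subgroup (Equiv.Perm (Fin n)))) =
      2 ^ (Nat.card (symplecticGroup (Fin n) F)).factorization 2 := by
    rw [card_SS (spI h2), ClassSp.card_fin, Nat.factorization_mul (pow_ne_zero _ (by omega)) (H53.SEA.prod_ne_zero hq1 n)]
    simp only [Finsupp.add_apply]
    have e1 : Nat.card (Q : Subgroup (SpecialLinearGroup (Fin 2) F)) = 2 ^ (Nat.card (SpecialLinearGroup (Fin 2) F)).factorization 2 :=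
      H53.SEA.card_sylow Q
    have e2 : Nat.card (T : Subgroup (Equiv.Perm (Fin n))) = 2 ^ (Nat.card (Equiv.Perm (Fin n))).factorization 2 :=
      H53.SEA.card_sylow T
    rw [H53.SEA.fac_odd_pow hF, zero_add, H53.SEA.fac_prod hF hq1, e1, e2, H81.card_sl2, Nat.card_perm, Nat.card_fin,
      ← pow_mul, ← pow_add]
    congr 1
    ring
  exact ⟨Sylow.ofCard _ hc, rfl⟩

/-- **the symplectic groups** -/
theorem sp_strong [Fintype F] (hF : Odd (Fintype.card F)) (k : ℕ) :
    ∃ S : Sylow 2 (symplecticGroup (Fin (2 ^ k)) F), Strong (S : Subgroup (symplecticGroup (Fin (2 ^ k)) F)) ∧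
      ∀ g g' : symplecticGroup (Fin (2 ^ k)) F,
        (∀ s ∈ (S : Subgroup (symplecticGroup (Fin (2 ^ k)) F)), g * s * g⁻¹ ∈ (S : Subgroup (symplecticGroup (Fin (2 ^ k)) F))) →
        (∀ s ∈ (S : Subgroup (symplecticGroup (Fin (2 ^ k)) F)), g' * s * g'⁻¹ ∈ (S : Subgroup (symplecticGroup (Fin (2 ^ k)) F))) →
        g * g' * g⁻¹ * g'⁻¹ ∈ (S : Subgroup (symplecticGroup (Fin (2 ^ k)) F)) := by
  have h2 : (2 : F) ≠ 0 := by
    intro h
    have h0 : Fintype.card F % 2 = 0 :=
      FiniteField.even_card_iff_char_two.mp (CharP.ringChar_of_prime_eq_zero Nat.prime_two (by exact_mod_cast h))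
    obtain ⟨k, hk⟩ := hF
    omega
  obtain ⟨Q⟩ : Nonempty (Sylow 2 (Matrix.SpecialLinearGroup (Fin 2) F)) := inferInstance
  obtain ⟨T⟩ : Nonempty (Sylow 2 (Equiv.Perm (Fin (2 ^ k)))) := inferInstance
  obtain ⟨q1, h1Q, q2, h2Q, hq⟩ := sl2_pair hF Q
  obtain ⟨S, hS⟩ := sp_sylow hF h2 Q T
  have hT : ∀ ν : Equiv.Perm (Fin (2 ^ k)), (∀ τ ∈ (T : Subgroup (Equiv.Perm (Fin (2 ^ k)))), ν * τ * ν⁻¹ ∈ (T : Subgroup (Equiv.Perm (Fin (2 ^ k))))) →
      ν ∈ (T : Subgroup (Equiv.Perm (Fin (2 ^ k)))) := sn_perm k T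
  have hTt := perm_trans k T
  have i0 : Fin (2 ^ k) := ⟨0, by positivity⟩
  refine ⟨S, ?_, ?_⟩
  · rw [hS]
    exact strong_SS (spI h2) (spX F (2 ^ k)) hq (spB_nd h2) (sl2_comm hF Q) (sl2_cases hF Q) S hS hT hTt h1Q h2Q i0
  · rw [hS]
    intro g g' hg hg'
    exact comm_SS (spI h2) (spX F (2 ^ k)) hq (sl2_comm hF Q) hT hTt h1Q i0 hg hg'

theorem sp_strong' [Fintype F] (hF : Odd (Fintype.card F)) {m : ℕ} (hm : ∃ k : ℕ, m = 2 ^ k) :
    ∃ S : Sylow 2 (symplecticGroup (Fin m) F), Strong (S : Subgroup (symplecticGroup (Fin m) F)) ∧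
      ∀ g g' : symplecticGroup (Fin m) F,
        (∀ s ∈ (S : Subgroup (symplecticGroup (Fin m) F)), g * s * g⁻¹ ∈ (S : Subgroup (symplecticGroup (Fin m) F))) →
        (∀ s ∈ (S : Subgroup (symplecticGroup (Fin m) F)), g' * s * g'⁻¹ ∈ (S : Subgroup (symplecticGroup (Fin m) F))) →
        g * g' * g⁻¹ * g'⁻¹ ∈ (S : Subgroup (symplecticGroup (Fin m) F)) := by
  obtain ⟨k, rfl⟩ := hm
  exact sp_strong hF k

end sp

/-- **products of projective symplectic groups** -/
theorem isPronormal_pi_PSp {t : ℕ} (m : Fin t → ℕ) (F : Fin t → Type u) [∀ i, Field (F i)] [∀ i, Fintype (F i)]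
    (hm : ∀ i, ∃ k : ℕ, m i = 2 ^ k) (hodd : ∀ i, Odd (Fintype.card (F i)))
    (H : Subgroup (∀ i, Cfsg.PSp (m i) (F i))) (hH : Odd H.index) : Cfsg.IsPronormal H := by
  let f : (∀ i, symplecticGroup (Fin (m i)) (F i)) →* (∀ i, Cfsg.PSp (m i) (F i)) :=
    { toFun := fun v i => QuotientGroup.mk' (Subgroup.center (symplecticGroup (Fin (m i)) (F i))) (v i)
      map_one' := by funext i; exact map_one _
      map_mul' := fun v w => by funext i; exact map_mul _ _ _ }
  have hf : Function.Surjective f := by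
    intro v
    choose w hw using fun i => QuotientGroup.mk'_surjective (Subgroup.center (symplecticGroup (Fin (m i)) (F i))) (v i)
    exact ⟨w, funext hw⟩
  apply isPronormal_map f hf
  choose S hS1 hS2 using fun i => sp_strong' (F := F i) (hodd i) (hm i)
  apply isPronormal_pi S hS2 hS1
  rw [Subgroup.index_comap_of_surjective _ hf]
  exact not_two_dvd_of_odd hH

end Cfsg.Agent.H95.SpT
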