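import Cfsg.Agent.H95.SpCore
import Cfsg.Agent.S2431

set_option autoImplicit false
set_option linter.unusedSectionVars false

/-!
Strong pronormality for the symplectic groups, abstract form.
-/

namespace Cfsg.Agent.H95.SpT

universe u v w

open Matrix

section chi

variable {F : Type u} [Field F] [Finite F] {Q : Sylow 2 (SpecialLinearGroup (Fin 2) F)}

/-- the character of the normaliser -/
theorem exists_chi (hab : ∀ c c' : SpecialLinearGroup (Fin 2) F, (∀ q ∈ (Q : Subgroup _), c * q * c⁻¹ ∈ (Q : Subgroup _)) →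
    (∀ q ∈ (Q : Subgroup _), c' * q * c'⁻¹ ∈ (Q : Subgroup _)) → c * c' * c⁻¹ * c'⁻¹ ∈ (Q : Subgroup _)) :
    ∃ (A : Type u) (_ : CommGroup A) (χ : NQ Q →* A), ∀ x : NQ Q, χ x = 1 ↔
      (x : SpecialLinearGroup (Fin 2) F) ∈ (Q : Subgroup (SpecialLinearGroup (Fin 2) F)) := by
  set S' := (Q : Subgroup (SpecialLinearGroup (Fin 2) F)).subgroupOf (NQ Q) with hS'
  have hn : S'.Normal := Subgroup.normal_in_normalizer
  let inst : CommGroup (NQ Q ⧸ S') :=
    { (inferInstance : Group (NQ Q ⧸ S')) with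
      mul_comm := by
        intro x y
        obtain ⟨a, rfl⟩ := QuotientGroup.mk'_surjective S' x
        obtain ⟨b, rfl⟩ := QuotientGroup.mk'_surjective S' y
        rw [← map_mul, ← map_mul]
        apply (QuotientGroup.eq (s := S')).2
        show (a * b)⁻¹ * (b * a) ∈ S'
        rw [hS', Subgroup.mem_subgroupOf]
        have h1 := hab (b : SpecialLinearGroup (Fin 2) F)⁻¹ (a : SpecialLinearGroup (Fin 2) F)⁻¹
          (norm_iff.1 (inv_mem b.2)) (norm_iff.1 (inv_mem a.2))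
        have h2 : (((a * b)⁻¹ * (b * a) : NQ Q) : SpecialLinearGroup (Fin 2) F) =
            (b : SpecialLinearGroup (Fin 2) F)⁻¹ * (a : SpecialLinearGroup (Fin 2) F)⁻¹ *
              ((b : SpecialLinearGroup (Fin 2) F)⁻¹)⁻¹ * ((a : SpecialLinearGroup (Fin 2) F)⁻¹)⁻¹ := by
          push_cast
          group
        rw [h2]; exact h1 }
  refine ⟨NQ Q ⧸ S', inst, QuotientGroup.mk' S', fun x => ?_⟩
  have h1 : QuotientGroup.mk' S' x = 1 ↔ x ∈ S' := by
    rw [← MonoidHom.mem_ker, QuotientGroup.ker_mk']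
  exact h1

/-- the two cases -/
theorem sl2_cases [Fintype F] (hodd : Odd (Fintype.card F)) (Q : Sylow 2 (SpecialLinearGroup (Fin 2) F)) :
    Nonempty ((Q : Subgroup (SpecialLinearGroup (Fin 2) F)) ≃* QuaternionGroup 2) ∨
      ∀ a : SpecialLinearGroup (Fin 2) F, Odd (orderOf a) → (∀ q ∈ (Q : Subgroup _), a * q * a⁻¹ ∈ (Q : Subgroup _)) → a = 1 := by
  have h2 : (2 : F) ≠ 0 := by
    intro h
    have h0 : Fintype.card F % 2 = 0 :=
      FiniteField.even_card_iff_char_two.mp (CharP.ringChar_of_prime_eq_zero Nat.prime_two (by exact_mod_cast h))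
    obtain ⟨k, hk⟩ := hodd
    omega
  have C := ca_sl h2
  obtain ⟨k, hk, ⟨e⟩⟩ := S0261.result hodd Q
  by_cases hk2 : 2 ≤ k
  · right
    intro x hx hn
    have hA : IsPGroup 2 (MulAut (Q : Subgroup (Matrix.SpecialLinearGroup (Fin 2) F))) :=
      (S5112.isPGroup_mulAut_quaternion k hk2).of_equiv (MulAut.congr e.symm)
    have h3 := comm_of_aut hA hx hn
    set i := e.symm (QuaternionGroup.a 1) with hi
    set j := e.symm (QuaternionGroup.xa 0) with hj
    have hij : (i : Matrix.SpecialLinearGroup (Fin 2) F) * j ≠ j * i := by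
      intro h
      have h4 : i * j = j * i := Subtype.ext h
      rw [hi, hj, ← map_mul, ← map_mul] at h4
      have h5 := e.symm.injective h4
      rw [QuaternionGroup.a_mul_xa, QuaternionGroup.xa_mul_a, QuaternionGroup.xa.injEq] at h5
      have h6 : ((2 : ℕ) : ZMod (2 * 2 ^ k)) = 0 := by
        push_cast
        linear_combination -h5
      rw [ZMod.natCast_eq_zero_iff] at h6
      have h7 := Nat.le_of_dvd (by norm_num) h6
      have h8 : 2 ^ 2 ≤ 2 ^ k := Nat.pow_le_pow_right (by norm_num) hk2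
      omega
    apply C.one_of_odd hx
    by_contra hcon
    push Not at hcon
    exact hij (C.ca x hcon.1 hcon.2 i j (h3 i i.2) (h3 j j.2))
  · left
    have hk1 : k = 1 := by omega
    subst hk1
    exact ⟨e⟩

/-- the commutators of the normaliser -/
theorem sl2_comm [Fintype F] (hodd : Odd (Fintype.card F)) (Q : Sylow 2 (SpecialLinearGroup (Fin 2) F)) :
    ∀ c c' : SpecialLinearGroup (Fin 2) F, (∀ q ∈ (Q : Subgroup _), c * q * c⁻¹ ∈ (Q : Subgroup _)) →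
    (∀ q ∈ (Q : Subgroup _), c' * q * c'⁻¹ ∈ (Q : Subgroup _)) → c * c' * c⁻¹ * c'⁻¹ ∈ (Q : Subgroup _) := by
  intro c c' hc hc'
  obtain ⟨-, h1, h2⟩ := S2431.result hodd Q
  have hcN : c ∈ NQ Q := norm_iff.2 hc
  have hcN' : c' ∈ NQ Q := norm_iff.2 hc'
  have hmod : Fintype.card F % 8 = 1 ∨ Fintype.card F % 8 = 7 ∨ Fintype.card F % 8 = 3 ∨ Fintype.card F % 8 = 5 := by
    obtain ⟨k, hk⟩ := hodd
    omega
  have hcase : (Fintype.card F % 8 = 1 ∨ Fintype.card F % 8 = 7) ∨ (Fintype.card F % 8 = 3 ∨ Fintype.card F % 8 = 5) := by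
    tauto
  rcases hcase with h | h
  · have h3 : NQ Q = (Q : Subgroup _) := h1 h
    rw [h3] at hcN hcN'
    exact mul_mem (mul_mem (mul_mem hcN hcN') (inv_mem hcN)) (inv_mem hcN')
  · have h3 := h2 h
    set S' := (Q : Subgroup (SpecialLinearGroup (Fin 2) F)).subgroupOf (NQ Q) with hS'
    have hn : S'.Normal := Subgroup.normal_in_normalizer
    have hle : (Q : Subgroup _) ≤ NQ Q := Subgroup.le_normalizer
    have h4 : Nat.card (NQ Q ⧸ S') = 3 := by
      have h5 := Subgroup.card_mul_index S'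
      have h6 : Nat.card S' = Nat.card (Q : Subgroup (SpecialLinearGroup (Fin 2) F)) :=
        Nat.card_congr (Subgroup.subgroupOfEquivOfLe hle).toEquiv
      rw [h6] at h5
      have h7 : 0 < Nat.card (Q : Subgroup (SpecialLinearGroup (Fin 2) F)) := Nat.card_pos
      have h8 : Nat.card (Q : Subgroup (SpecialLinearGroup (Fin 2) F)) * S'.index =
          Nat.card (Q : Subgroup (SpecialLinearGroup (Fin 2) F)) * 3 := by
        rw [h5, mul_comm _ 3]
        exact h3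
      exact Nat.eq_of_mul_eq_mul_left h7 h8
    have : Fact (Nat.Prime 3) := ⟨Nat.prime_three⟩
    have hcyc : IsCyclic (NQ Q ⧸ S') := isCyclic_of_prime_card h4
    have hcomm := (IsCyclic.commGroup (α := NQ Q ⧸ S')).mul_comm (QuotientGroup.mk' S' ⟨c, hcN⟩) (QuotientGroup.mk' S' ⟨c', hcN'⟩)
    have h9 : QuotientGroup.mk' S' (⟨c, hcN⟩ * ⟨c', hcN'⟩ * ⟨c, hcN⟩⁻¹ * ⟨c', hcN'⟩⁻¹) = 1 := by
      rw [map_mul, map_mul, map_mul, map_inv, map_inv]
      have h10 : QuotientGroup.mk' S' ⟨c, hcN⟩ * QuotientGroup.mk' S' ⟨c', hcN'⟩ =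
        QuotientGroup.mk' S' ⟨c', hcN'⟩ * QuotientGroup.mk' S' ⟨c, hcN⟩ := hcomm
      rw [h10]; group
    rw [← MonoidHom.mem_ker, QuotientGroup.ker_mk'] at h9
    exact h9

/-- a quaternion pair -/
theorem sl2_pair [Fintype F] (hodd : Odd (Fintype.card F)) (Q : Sylow 2 (SpecialLinearGroup (Fin 2) F)) :
    ∃ q1 ∈ (Q : Subgroup (SpecialLinearGroup (Fin 2) F)), ∃ q2 ∈ (Q : Subgroup (SpecialLinearGroup (Fin 2) F)), QP q1 q2 := by
  have h2 : (2 : F) ≠ 0 := by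
    intro h
    have h0 : Fintype.card F % 2 = 0 :=
      FiniteField.even_card_iff_char_two.mp (CharP.ringChar_of_prime_eq_zero Nat.prime_two (by exact_mod_cast h))
    obtain ⟨k, hk⟩ := hodd
    omega
  have C := ca_sl h2
  obtain ⟨k, hk, ⟨e⟩⟩ := S0261.result hodd Q
  obtain ⟨m, rfl⟩ : ∃ m, k = m + 1 := ⟨k - 1, by omega⟩
  -- the involution
  have hinv : ∀ u : QuaternionGroup (2 ^ (m + 1)), u ≠ 1 → u * u = 1 → (e.symm u).1 = -1 := by
    intro u hu huu
    have h3 : (e.symm u) * (e.symm u) = 1 := by rw [← map_mul, huu, map_one]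
    rcases C.inv _ (congrArg Subtype.val h3) with h | h
    · exfalso
      apply hu
      have h4 : e.symm u = 1 := Subtype.ext h
      exact e.symm.injective (by rw [h4, map_one])
    · exact h
  -- the element `a (2^m)` squares to `a (2^(m+1))`
  set z : QuaternionGroup (2 ^ (m + 1)) := QuaternionGroup.a ((2 ^ (m + 1) : ℕ) : ZMod (2 * 2 ^ (m + 1))) with hz
  have hz1 : z ≠ 1 := by
    intro h
    rw [hz, ← QuaternionGroup.a_zero, QuaternionGroup.a.injEq, ZMod.natCast_eq_zero_iff] at h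
    have := Nat.le_of_dvd (by positivity) h
    have : 0 < 2 ^ (m + 1) := by positivity
    omega
  have hzz : z * z = 1 := by
    rw [hz, QuaternionGroup.a_mul_a, ← QuaternionGroup.a_zero, ← Nat.cast_add]
    congr 1
    rw [ZMod.natCast_eq_zero_iff]
    exact ⟨1, by ring⟩
  have hez := hinv z hz1 hzz
  set p := e.symm (QuaternionGroup.a ((2 ^ m : ℕ) : ZMod (2 * 2 ^ (m + 1)))) with hp
  set q := e.symm (QuaternionGroup.xa 0) with hq
  have hpp : p * p = e.symm z := by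
    rw [hp, ← map_mul, QuaternionGroup.a_mul_a, ← Nat.cast_add, hz]
    congr 3
    ring
  have hqq : q * q = e.symm z := by
    rw [hq, ← map_mul, QuaternionGroup.xa_mul_xa, hz]
    congr 2
    simp
  have hpq : p * q = e.symm z * (q * p) := by
    rw [hp, hq, ← map_mul, ← map_mul, ← map_mul, QuaternionGroup.a_mul_xa, QuaternionGroup.xa_mul_a, hz,
      QuaternionGroup.a_mul_xa]
    congr 2
    have h5 : ((2 ^ (m + 1) : ℕ) : ZMod (2 * 2 ^ (m + 1))) = ((2 ^ m : ℕ) : ZMod (2 * 2 ^ (m + 1))) + ((2 ^ m : ℕ) : ZMod (2 * 2 ^ (m + 1))) := by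
      rw [← Nat.cast_add]; congr 1; ring
    have h6 : ((2 ^ (m + 1) : ℕ) : ZMod (2 * 2 ^ (m + 1))) + ((2 ^ (m + 1) : ℕ) : ZMod (2 * 2 ^ (m + 1))) = 0 := by
      rw [← Nat.cast_add, ZMod.natCast_eq_zero_iff]
      exact ⟨1, by ring⟩
    linear_combination h5
  refine ⟨p, p.2, q, q.2, ?_, ?_, ?_⟩
  · rw [← hez, ← hpp]; rfl
  · rw [← hez, ← hqq]; rfl
  · rw [← hez]
    exact congrArg Subtype.val hpq

end chi

variable {F : Type u} [Field F] [Finite F] {V : Type v} [AddCommGroup V] [Module F V] {B : LinearMap.BilinForm F V}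
  {G : Type w} [Group G] [DistribMulAction G V] [SMulCommClass G F V] {n : ℕ}
  [FaithfulSMul G V] (I : Isom B G) (X : Frm B G n) {q1 q2 : SpecialLinearGroup (Fin 2) F} (hq : QP q1 q2)
  {Q : Sylow 2 (SpecialLinearGroup (Fin 2) F)} {T : Subgroup (Equiv.Perm (Fin n))}

include I hq

/-- **strong pronormality** -/
theorem strong_SS [Finite G] [Finite V] (hnd : B.Nondegenerate)
    (hab : ∀ c c' : SpecialLinearGroup (Fin 2) F, (∀ q ∈ (Q : Subgroup _), c * q * c⁻¹ ∈ (Q : Subgroup _)) →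
    (∀ q ∈ (Q : Subgroup _), c' * q * c'⁻¹ ∈ (Q : Subgroup _)) → c * c' * c⁻¹ * c'⁻¹ ∈ (Q : Subgroup _))
    (hcase : Nonempty ((Q : Subgroup (SpecialLinearGroup (Fin 2) F)) ≃* QuaternionGroup 2) ∨
      ∀ a : SpecialLinearGroup (Fin 2) F, Odd (orderOf a) → (∀ q ∈ (Q : Subgroup _), a * q * a⁻¹ ∈ (Q : Subgroup _)) → a = 1)
    (S0 : Sylow 2 G) (hS0 : (S0 : Subgroup G) = SS X (Q : Subgroup _) T)
    (hT : ∀ ν : Equiv.Perm (Fin n), (∀ τ ∈ T, ν * τ * ν⁻¹ ∈ T) → ν ∈ T)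
    (hTt : ∀ i j : Fin n, ∃ τ ∈ T, τ i = j)
    (h1Q : q1 ∈ (Q : Subgroup _)) (h2Q : q2 ∈ (Q : Subgroup _)) (i0 : Fin n) : Strong (SS X (Q : Subgroup _) T) := by
  intro H hSH g hg
  obtain ⟨c, hcN, σ, hσ, hgc⟩ := norm_SS I X hq h1Q hT hTt i0 hg
  obtain ⟨a, s, hs, hcas, ha, haQ⟩ := exists_decomp Q (norm_iff.2 hcN)
  set σ' := cst X s * σ with hσ'
  have hσ'S : σ' ∈ SS X (Q : Subgroup _) T := mul_mem (cst_mem_SS X hs) hσ
  have hgσ : g = cst X a * σ' := by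
    rw [hσ', ← mul_assoc, ← map_mul, ← hcas, hgc]; rfl
  have hσ'H := hSH hσ'S
  by_cases hall : ∀ K : Subgroup G, H ≤ K → (∀ h ∈ H, cst X a * h * (cst X a)⁻¹ ∈ K) → cst X a ∈ K
  · right
    intro K hHK hK
    rw [hgσ]
    refine mul_mem (hall K hHK ?_) (hHK hσ'H)
    intro h hh
    have h1 := hK (σ'⁻¹ * h * σ') (mul_mem (mul_mem (inv_mem hσ'H) hh) hσ'H)
    have h2 : g * (σ'⁻¹ * h * σ') * g⁻¹ = cst X a * h * (cst X a)⁻¹ := by rw [hgσ]; group
    rwa [h2] at h1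
  · left
    push Not at hall
    obtain ⟨K, hHK, hK, haK⟩ := hall
    rcases hcase with e8 | h1
    · obtain ⟨A, _, χ, hχ⟩ := exists_chi hab
      intro h hh
      have h1 := core I X hq hnd χ hχ e8 S0 hS0 hT hTt h1Q h2Q i0 hSH hHK ha haQ hK haK (σ' * h * σ'⁻¹)
        (mul_mem (mul_mem hσ'H hh) (inv_mem hσ'H))
      have h2 : cst X a * (σ' * h * σ'⁻¹) * (cst X a)⁻¹ = g * h * g⁻¹ := by rw [hgσ]; group
      rwa [h2] at h1
    · exfalso
      rw [h1 a ha haQ, map_one] at haK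
      exact haK (one_mem _)

/-- commutators in the normaliser -/
theorem comm_SS [Finite G] (hab : ∀ c c' : SpecialLinearGroup (Fin 2) F, (∀ q ∈ (Q : Subgroup _), c * q * c⁻¹ ∈ (Q : Subgroup _)) →
    (∀ q ∈ (Q : Subgroup _), c' * q * c'⁻¹ ∈ (Q : Subgroup _)) → c * c' * c⁻¹ * c'⁻¹ ∈ (Q : Subgroup _))
    (hT : ∀ ν : Equiv.Perm (Fin n), (∀ τ ∈ T, ν * τ * ν⁻¹ ∈ T) → ν ∈ T)
    (hTt : ∀ i j : Fin n, ∃ τ ∈ T, τ i = j)
    (h1Q : q1 ∈ (Q : Subgroup _)) (i0 : Fin n) {g g' : G}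
    (hg : ∀ σ ∈ SS X (Q : Subgroup _) T, g * σ * g⁻¹ ∈ SS X (Q : Subgroup _) T)
    (hg' : ∀ σ ∈ SS X (Q : Subgroup _) T, g' * σ * g'⁻¹ ∈ SS X (Q : Subgroup _) T) :
    g * g' * g⁻¹ * g'⁻¹ ∈ SS X (Q : Subgroup _) T := by
  obtain ⟨c, hcN, σ, hσ, hgc⟩ := norm_SS I X hq h1Q hT hTt i0 hg
  obtain ⟨c', hcN', σ', hσ', hgc'⟩ := norm_SS I X hq h1Q hT hTt i0 hg'
  rw [← cst_apply] at hgc hgc'
  have n1 := cst_norm X (T := T) hcN
  have n1' := cst_norm X (T := T) hcN'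
  have n2 := norm_inv n1
  have n2' := norm_inv n1'
  -- `g g' = E E' σ₁`, `g' g = E' E σ₂`
  have e1 : g * g' = cst X c * cst X c' * ((cst X c')⁻¹ * σ * cst X c' * σ') := by rw [hgc, hgc']; group
  have e2 : g' * g = cst X c' * cst X c * ((cst X c)⁻¹ * σ' * cst X c * σ) := by rw [hgc, hgc']; group
  set σ1 := (cst X c')⁻¹ * σ * cst X c' * σ' with hσ1
  set σ2 := (cst X c)⁻¹ * σ' * cst X c * σ with hσ2
  have m1 : σ1 ∈ SS X (Q : Subgroup _) T := mul_mem (n2' σ hσ) hσ'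
  have m2 : σ2 ∈ SS X (Q : Subgroup _) T := mul_mem (n2 σ' hσ') hσ
  have e3 : g * g' * g⁻¹ * g'⁻¹ = (g * g') * (g' * g)⁻¹ := by group
  have e4 : (g * g') * (g' * g)⁻¹ = (cst X c * cst X c' * (cst X c)⁻¹ * (cst X c')⁻¹) *
      (cst X c' * (cst X c * (σ1 * σ2⁻¹) * (cst X c)⁻¹) * (cst X c')⁻¹) := by
    rw [e1, e2]; group
  rw [e3, e4]
  refine mul_mem ?_ (n1' _ (n1 _ (mul_mem m1 (inv_mem m2))))
  rw [← map_inv, ← map_inv, ← map_mul, ← map_mul, ← map_mul]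
  exact cst_mem_SS X (hab c c' hcN hcN')

end Cfsg.Agent.H95.SpT
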