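import Cfsg.Agent.H95.SylA

/-!
Sylvester-Schur theorem, part B: small cases.
-/

set_option autoImplicit false

namespace Cfsg.Agent.H95.SylB

open Finset Nat SylA

def prs : List ℕ := [2, 3, 5, 7, 11, 13, 17, 19, 23, 29, 31, 37, 41, 43, 47, 53, 59, 61, 67, 71, 73, 79,
  83, 89, 97, 101, 103, 107, 109, 113, 127, 131, 137, 139, 149, 151, 157, 163, 167, 173, 179, 181,
  191, 193, 197, 199]

theorem prs_prime : ∀ p ∈ prs, p.Prime := by
  intro p hp
  simp only [prs, List.mem_cons, List.not_mem_nil, or_false] at hp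
  rcases hp with rfl | rfl | rfl | rfl | rfl | rfl | rfl | rfl | rfl | rfl | rfl | rfl | rfl | rfl |
    rfl | rfl | rfl | rfl | rfl | rfl | rfl | rfl | rfl | rfl | rfl | rfl | rfl | rfl | rfl | rfl |
    rfl | rfl | rfl | rfl | rfl | rfl | rfl | rfl | rfl | rfl | rfl | rfl | rfl | rfl | rfl | rfl <;>
    norm_num

def chk (k : ℕ) : Bool :=
  (List.range 206).all fun n => (decide (n < 2 * k)) || prs.any (fun p => decide (k < p) && decide (n % p < k))

theorem chk_all : (List.range 32).all (fun k => chk (k + 1)) = true := by decide +kernel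

theorem small1 {n k : ℕ} (hk : 1 ≤ k) (hk2 : k < 33) (hn : 2 * k ≤ n) (hn2 : n < 206) : ¬ Bad n k := by
  intro hb
  have h := chk_all
  rw [List.all_eq_true] at h
  have h1 := h (k - 1) (List.mem_range.2 (by omega))
  have e : k - 1 + 1 = k := by omega
  rw [e, chk, List.all_eq_true] at h1
  have h2 := h1 n (List.mem_range.2 hn2)
  rw [Bool.or_eq_true, decide_eq_true_eq] at h2
  rcases h2 with h2 | h2
  · omega
  · rw [List.any_eq_true] at h2
    obtain ⟨p, hp, h3⟩ := h2
    rw [Bool.and_eq_true, decide_eq_true_eq, decide_eq_true_eq] at h3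
    have := hb.mod_ge (prs_prime p hp) h3.1
    omega

/-- explicit numerical bound for `k < 33` -/
theorem bound1 {n k : ℕ} (hk : 1 ≤ k) (hk2 : k < 33) (hn : 2 * k ≤ n) (hb : Bad n k) : n < 206 := by
  by_contra hc
  have h1 := hb.pow_le (by omega) (by omega)
  have h2 : Nat.primeCounting k ≤ k := by
    rw [← card_filter_prime]
    have : ((Finset.range (k + 1)).filter Nat.Prime) ⊆ Finset.Ioc 0 k := by
      intro p hp
      simp only [Finset.mem_filter, Finset.mem_range, Finset.mem_Ioc] at hp ⊢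
      exact ⟨hp.2.pos, by omega⟩
    simpa using Finset.card_le_card this
  have h3 : n ^ (k - Nat.primeCounting k) ≤ k ^ k := by
    have e : n ^ k = n ^ (k - Nat.primeCounting k) * n ^ (Nat.primeCounting k) := by
      rw [← pow_add]; congr 1; omega
    rw [e] at h1
    exact Nat.le_of_mul_le_mul_right h1 (pow_pos (by omega) _)
  have h4 : 206 ^ (k - Nat.primeCounting k) ≤ n ^ (k - Nat.primeCounting k) :=
    Nat.pow_le_pow_left (by omega) _
  have h5 : ∀ k ∈ List.range 33, 1 ≤ k → k ^ k < 206 ^ (k - Nat.primeCounting k) := by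
    decide +kernel
  have h6 := h5 k (List.mem_range.2 hk2) hk
  omega

def step (q r : ℕ) : Bool := decide (r - 1 - q < 33) || decide ((r - 1 - q) ^ 3 < q ^ 2)

def chain : ℕ → List ℕ → Bool
  | _, [] => true
  | q, r :: l => step q r && chain r l

theorem chain_spec : ∀ (l : List ℕ) (q : ℕ), chain q l = true → (∀ p ∈ q :: l, p.Prime) →
    ∀ n, q ≤ n → (∃ m ∈ l, n < m) → ∃ p : ℕ, p.Prime ∧ p ≤ n ∧ (n - p < 33 ∨ (n - p) ^ 3 < n ^ 2)
  | [], _, _, _, _, _, h => by
      obtain ⟨m, hm, _⟩ := h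
      simp at hm
  | r :: l, q, hc, hp, n, hq, h => by
      rw [chain, Bool.and_eq_true] at hc
      by_cases hnr : n < r
      · refine ⟨q, hp q (by simp), hq, ?_⟩
        have h1 := hc.1
        rw [step, Bool.or_eq_true, decide_eq_true_eq, decide_eq_true_eq] at h1
        rcases h1 with h1 | h1
        · left; omega
        · right
          calc (n - q) ^ 3 ≤ (r - 1 - q) ^ 3 := Nat.pow_le_pow_left (by omega) 3
            _ < q ^ 2 := h1
            _ ≤ n ^ 2 := Nat.pow_le_pow_left hq 2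
      · obtain ⟨m, hm, hnm⟩ := h
        have hm' : m ∈ l := by
          rcases List.mem_cons.1 hm with rfl | h2
          · omega
          · exact h2
        exact chain_spec l r hc.2 (fun p hpp => hp p (List.mem_cons_of_mem _ hpp)) n (by omega)
          ⟨m, hm', hnm⟩

def cl : List ℕ := [89, 113, 139, 167, 199, 233, 271, 313, 359, 409, 463, 523, 587, 653, 727, 797, 883,
  971, 1069, 1171, 1283, 1399, 1523, 1637, 1759, 1901, 2053, 2213, 2383, 2557, 2741, 2927, 3121, 3331,
  3547, 3779, 4021, 4273, 4523, 4793, 5077, 5351, 5657, 5953, 6277, 6607, 6959, 7321, 7699, 8089, 8467]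

theorem cl_prime : ∀ p ∈ 61 :: cl, p.Prime := by
  intro p hp
  simp only [cl, List.mem_cons, List.not_mem_nil, or_false] at hp
  rcases hp with rfl | rfl | rfl | rfl | rfl | rfl | rfl | rfl | rfl | rfl | rfl | rfl | rfl | rfl |
    rfl | rfl | rfl | rfl | rfl | rfl | rfl | rfl | rfl | rfl | rfl | rfl | rfl | rfl | rfl | rfl |
    rfl | rfl | rfl | rfl | rfl | rfl | rfl | rfl | rfl | rfl | rfl | rfl | rfl | rfl | rfl | rfl |
    rfl | rfl | rfl | rfl | rfl | rfl <;>
    norm_num

theorem small2 {n k : ℕ} (hk : 33 ≤ k) (hn : 2 * k ≤ n) (hn2 : n < 8467) (h : n ^ 2 ≤ k ^ 3) :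
    ¬ Bad n k := by
  intro hb
  obtain ⟨p, hp, hpn, h1⟩ := chain_spec cl 61 (by decide +kernel) cl_prime n (by omega)
    ⟨8467, by simp [cl], hn2⟩
  have h2 : n - p < k := by
    rcases h1 with h1 | h1
    · omega
    · by_contra hc
      have := Nat.pow_le_pow_left (Nat.not_lt.1 hc) 3
      omega
  have h3 := hb.mod_ge hp (by omega)
  have h4 : n % p = n - p := by
    rw [Nat.mod_eq_sub_mod hpn, Nat.mod_eq_of_lt (by omega)]
  omega

/-- the crude bound for the number of primes -/
theorem pi_third {k : ℕ} (hk : 33 ≤ k) : 3 * Nat.primeCounting k ≤ k := by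
  by_cases h : k < 140
  · have h5 : ∀ k ∈ List.range 140, 33 ≤ k → 3 * Nat.primeCounting k ≤ k := by decide +kernel
    exact h5 k (List.mem_range.2 h) hk
  · have h1 := Nat.primeCounting_add_le (a := 30) (k := 59) (by norm_num) (by norm_num) (k - 59)
    have e : 59 + (k - 59) = k := by omega
    rw [e] at h1
    have e2 : Nat.primeCounting 59 = 17 := by decide +kernel
    have e3 : Nat.totient 30 = 8 := by decide +kernel
    rw [e2, e3] at h1
    omega

theorem pi_half {s : ℕ} (hs : 19 ≤ s) : 2 * Nat.primeCounting s ≤ s := by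
  have h1 := Nat.primeCounting_add_le (a := 2) (k := 19) (by norm_num) (by norm_num) (s - 19)
  have e : 19 + (s - 19) = s := by omega
  rw [e] at h1
  have e2 : Nat.primeCounting 19 = 8 := by decide +kernel
  have e3 : Nat.totient 2 = 1 := by decide +kernel
  rw [e2, e3] at h1
  omega

theorem sq_le_cube {n k : ℕ} (hk : 33 ≤ k) (hn : 2 * k ≤ n) (hb : Bad n k) : n ^ 2 ≤ k ^ 3 := by
  have h1 := hb.pow_le (by omega) (by omega)
  have h2 : n ^ k * n ^ k * n ^ k ≤ (k ^ k * k ^ k * k ^ k) * n ^ (3 * Nat.primeCounting k) := by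
    calc n ^ k * n ^ k * n ^ k ≤ (k ^ k * n ^ (Nat.primeCounting k)) * (k ^ k * n ^ (Nat.primeCounting k)) *
          (k ^ k * n ^ (Nat.primeCounting k)) := Nat.mul_le_mul (Nat.mul_le_mul h1 h1) h1
      _ = _ := by ring
  have h3 : n ^ (3 * Nat.primeCounting k) ≤ n ^ k := Nat.pow_le_pow_right (by omega) (pi_third hk)
  have h4 : (n ^ k * n ^ k) * n ^ k ≤ (k ^ k * k ^ k * k ^ k) * n ^ k :=
    h2.trans (Nat.mul_le_mul_left _ h3)
  have h5 := Nat.le_of_mul_le_mul_right h4 (pow_pos (by omega) _)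
  have h6 : (n ^ 2) ^ k ≤ (k ^ 3) ^ k := by
    calc (n ^ 2) ^ k = n ^ k * n ^ k := by ring
      _ ≤ _ := h5
      _ = _ := by ring
  exact (Nat.pow_le_pow_iff_left (by omega)).1 h6

theorem small {n k : ℕ} (hk : 1 ≤ k) (hk4 : k < 400) (hn : 2 * k ≤ n) : ¬ Bad n k := by
  intro hb
  by_cases h : k < 33
  · exact small1 hk h hn (bound1 hk h hn hb) hb
  · have h1 := sq_le_cube (by omega) hn hb
    refine small2 (by omega) hn ?_ h1 hb
    by_contra hc
    have h2 : 8467 ^ 2 ≤ n ^ 2 := Nat.pow_le_pow_left (by omega) 2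
    have h3 : k ^ 3 ≤ 400 ^ 3 := Nat.pow_le_pow_left (by omega) 3
    norm_num at h2 h3
    omega

end Cfsg.Agent.H95.SylB
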