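import Mathlib

set_option autoImplicit false

namespace Cfsg.Agent.H95

/-- If `G` is transitive on `Ω` and `p ^ a` divides `|Ω|`, then it divides the length of every
orbit of a Sylow `p`-subgroup. -/
theorem pow_dvd_ncard_sylow_orbit {G Ω : Type*} [Group G] [Finite G] [MulAction G Ω]
    [MulAction.IsPretransitive G Ω] (p : ℕ) [Fact p.Prime] (P : Sylow p G) (ω : Ω) (a : ℕ)
    (ha : p ^ a ∣ Nat.card Ω) :
    p ^ a ∣ (MulAction.orbit (P : Subgroup G) ω).ncard := by
  set K := MulAction.stabilizer G ω with hK
  set S : Subgroup G := (P : Subgroup G) with hS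
  have hst : MulAction.stabilizer S ω = K.subgroupOf S := by
    ext x
    simp [hK, Subgroup.mem_subgroupOf, MulAction.mem_stabilizer_iff, Subgroup.smul_def]
  have h1 : (MulAction.orbit S ω).ncard = K.relIndex S := by
    rw [← MulAction.index_stabilizer, hst]; rfl
  have h2 : K.relIndex S * S.index = (K ⊓ S).relIndex K * K.index := by
    rw [Subgroup.relIndex_mul_index inf_le_left, ← Subgroup.inf_relIndex_right,
      Subgroup.relIndex_mul_index inf_le_right]
  have h3 : p ^ a ∣ K.relIndex S * S.index := by
    rw [h2, hK, MulAction.index_stabilizer_of_transitive]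
    exact ha.mul_left _
  have h4 : (p ^ a).Coprime S.index := by
    apply Nat.Coprime.pow_left
    rw [(Fact.out : p.Prime).coprime_iff_not_dvd]
    exact P.not_dvd_index
  rw [h1]
  exact h4.dvd_of_dvd_mul_right h3

end Cfsg.Agent.H95
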