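import Mathlib

set_option autoImplicit false
set_option linter.unusedSectionVars false

/-!
An inductive argument for normalisers of Sylow `2`-subgroups in a tower of groups `Γ ≀ 2 ≤ Γ'`.
-/

namespace Cfsg.Agent.H95

universe u v

section syl

variable {Γ : Type u} [Group Γ] [Finite Γ]

/-- `P` is a Sylow `2`-subgroup of `N` -/
def SylIn (P N : Subgroup Γ) : Prop := P ≤ N ∧ IsPGroup 2 P ∧ ¬ 2 ∣ P.relIndex N

lemma SylIn.conj {P Q N : Subgroup Γ} (hP : SylIn P N) (hQ : SylIn Q N) :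
    ∃ g ∈ N, ∀ x, x ∈ Q ↔ g⁻¹ * x * g ∈ P := by
  have h1 : IsPGroup 2 (P.subgroupOf N) := hP.2.1.of_equiv (Subgroup.subgroupOfEquivOfLe hP.1).symm
  have h2 : IsPGroup 2 (Q.subgroupOf N) := hQ.2.1.of_equiv (Subgroup.subgroupOfEquivOfLe hQ.1).symm
  have i1 : ¬ 2 ∣ (P.subgroupOf N).index := hP.2.2
  have i2 : ¬ 2 ∣ (Q.subgroupOf N).index := hQ.2.2
  obtain ⟨g, hg⟩ := MulAction.exists_smul_eq N (h1.toSylow i1) (h2.toSylow i2)
  refine ⟨g, g.2, fun x => ?_⟩
  have key : ∀ y : N, (y : Γ) ∈ Q ↔ (g : Γ)⁻¹ * y * g ∈ P := by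
    intro y
    have h3 : y ∈ (g • (h1.toSylow i1) : Sylow 2 N) ↔ y ∈ h2.toSylow i2 := by rw [hg]
    have h4 : y ∈ (g • (h1.toSylow i1) : Sylow 2 N) ↔ g⁻¹ * y * g ∈ h1.toSylow i1 := by
      show y ∈ ((g • (h1.toSylow i1) : Sylow 2 N) : Subgroup N) ↔ _
      rw [Sylow.coe_subgroup_smul, 
        Subgroup.mem_pointwise_smul_iff_inv_smul_mem, ← map_inv, MulAut.smul_def, MulAut.conj_apply, inv_inv]
      exact Iff.rfl
    rw [h4, IsPGroup.mem_toSylow, IsPGroup.mem_toSylow, Subgroup.mem_subgroupOf, Subgroup.mem_subgroupOf] at h3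
    exact h3.symm
  constructor
  · intro hx
    exact (key ⟨x, hQ.1 hx⟩).1 hx
  · intro hx
    have h3 : x ∈ N := by
      have h4 := hP.1 hx
      have e : x = g * ((g : Γ)⁻¹ * x * g) * (g : Γ)⁻¹ := by group
      rw [e]
      exact mul_mem (mul_mem g.2 h4) (inv_mem g.2)
    exact (key ⟨x, h3⟩).2 hx

lemma sylIn_inf (S : Sylow 2 Γ) (N : Subgroup Γ) [N.Normal] : SylIn ((S : Subgroup Γ) ⊓ N) N := by
  refine ⟨inf_le_right, S.isPGroup'.to_le inf_le_left, ?_⟩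
  rw [Subgroup.inf_relIndex_right]
  intro h
  apply S.not_dvd_index
  refine h.trans ?_
  have h1 := Subgroup.card_mul_index (N.subgroupOf (S : Subgroup Γ))
  have h2 : N.relIndex ((S : Subgroup Γ) ⊔ N) = N.relIndex (S : Subgroup Γ) := Subgroup.relIndex_sup_right ..
  have hS : (S : Subgroup Γ).relIndex ((S : Subgroup Γ) ⊔ N) = (S : Subgroup Γ).relIndex N := by
    have c1 : Nat.card ((S : Subgroup Γ) ⊓ N : Subgroup Γ) * (S : Subgroup Γ).relIndex N = Nat.card N := by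
      have := Subgroup.relIndex_mul_relIndex (⊥ : Subgroup Γ) ((S : Subgroup Γ) ⊓ N) N bot_le inf_le_right
      rwa [Subgroup.inf_relIndex_right, Subgroup.relIndex_bot_left, Subgroup.relIndex_bot_left] at this
    have c2 : Nat.card ((S : Subgroup Γ) ⊓ N : Subgroup Γ) * N.relIndex (S : Subgroup Γ) = Nat.card (S : Subgroup Γ) := by
      have := Subgroup.relIndex_mul_relIndex (⊥ : Subgroup Γ) ((S : Subgroup Γ) ⊓ N) (S : Subgroup Γ) bot_le inf_le_left
      rwa [Subgroup.inf_relIndex_left, Subgroup.relIndex_bot_left, Subgroup.relIndex_bot_left] at this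
    have c3 : Nat.card N * N.relIndex (S : Subgroup Γ) = Nat.card ((S : Subgroup Γ) ⊔ N : Subgroup Γ) := by
      have := Subgroup.relIndex_mul_relIndex (⊥ : Subgroup Γ) N ((S : Subgroup Γ) ⊔ N) bot_le le_sup_right
      rwa [h2, Subgroup.relIndex_bot_left, Subgroup.relIndex_bot_left] at this
    have c4 : Nat.card (S : Subgroup Γ) * (S : Subgroup Γ).relIndex ((S : Subgroup Γ) ⊔ N) =
        Nat.card ((S : Subgroup Γ) ⊔ N : Subgroup Γ) := by
      have := Subgroup.relIndex_mul_relIndex (⊥ : Subgroup Γ) (S : Subgroup Γ) ((S : Subgroup Γ) ⊔ N) bot_le le_sup_left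
      rwa [Subgroup.relIndex_bot_left, Subgroup.relIndex_bot_left] at this
    have hpos : 0 < Nat.card (S : Subgroup Γ) := Nat.card_pos
    apply Nat.eq_of_mul_eq_mul_left hpos
    rw [c4, ← c3, ← c1, ← c2]
    ring
  rw [← hS]
  exact Subgroup.relIndex_dvd_index_of_le le_sup_left

lemma commute_of_sq {x e : Γ} (hx : Odd (orderOf x)) (h : x * x * e = e * (x * x)) : x * e = e * x := by
  obtain ⟨m, hm⟩ := hx
  have h1 : x = (x * x) ^ (m + 1) := by
    have h2 : x ^ (2 * m + 1) = 1 := by rw [← hm]; exact pow_orderOf_eq_one x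
    calc x = x * x ^ (2 * m + 1) := by rw [h2, mul_one]
      _ = x ^ (2 * (m + 1)) := by rw [← pow_succ']; congr 1
      _ = (x * x) ^ (m + 1) := by rw [pow_mul, pow_two]
  have h3 : Commute ((x * x) ^ (m + 1)) e := (show Commute (x * x) e from h).pow_left _
  rw [← h1] at h3
  exact h3

lemma eq_one_of_odd_of_two {x : Γ} (hx : Odd (orderOf x)) {P : Subgroup Γ} (hP : IsPGroup 2 P) (hxP : x ∈ P) : x = 1 := by
  obtain ⟨k, hk⟩ := hP ⟨x, hxP⟩
  have h1 : x ^ 2 ^ k = 1 := congrArg Subtype.val hk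
  have h2 := orderOf_dvd_of_pow_eq_one h1
  have h3 : Nat.Coprime (orderOf x) (2 ^ k) := (Nat.Coprime.pow_right k (Nat.coprime_two_right.2 hx))
  have h4 := Nat.Coprime.eq_one_of_dvd h3 h2
  exact orderOf_eq_one_iff.1 h4

lemma odd_of_pow {x : Γ} {n : ℕ} (hn : Odd n) (h : x ^ n = 1) : Odd (orderOf x) :=
  Odd.of_dvd_nat hn (orderOf_dvd_of_pow_eq_one h)

lemma norm_inv {x : Γ} {P : Subgroup Γ} (h : ∀ s ∈ P, x * s * x⁻¹ ∈ P) : ∀ s ∈ P, x⁻¹ * s * x ∈ P := by
  intro s hs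
  have h1 : ∀ k : ℕ, x ^ k * s * (x ^ k)⁻¹ ∈ P := by
    intro k
    induction k with
    | zero => simpa using hs
    | succ k ih =>
      have := h _ ih
      have e : x * (x ^ k * s * (x ^ k)⁻¹) * x⁻¹ = x ^ (k + 1) * s * (x ^ (k + 1))⁻¹ := by
        rw [pow_succ']; group
      rwa [e] at this
  have h2 := h1 (orderOf x - 1)
  have h3 : x ^ (orderOf x - 1) = x⁻¹ := by
    rw [eq_inv_iff_mul_eq_one, ← pow_succ, Nat.sub_add_cancel (orderOf_pos x), pow_orderOf_eq_one]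
  rwa [h3, inv_inv] at h2

end syl

variable {Γ : Type u} [Group Γ] [Finite Γ] {Γ' : Type u} [Group Γ'] [Finite Γ'] {D : Type v} [CommGroup D]

/-- the inductive property -/
structure Tow {Γ : Type u} [Group Γ] (det : Γ →* D) (Z : Subgroup Γ) (z : Γ) : Prop where
  zle : Z ≤ Subgroup.center Γ
  zZ : z ∈ Z
  z2 : z * z = 1
  z1 : z ≠ 1
  zd : det z = 1
  inv : ∀ u ∈ Z, u * u = 1 → u = 1 ∨ u = z
  cent : ∀ P : Subgroup Γ, SylIn P det.ker → ∀ c : Γ, (∀ x ∈ P, c * x = x * c) → c ∈ Z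
  norm : ∀ S : Sylow 2 Γ, ∀ x : Γ, Odd (orderOf x) → (∀ s ∈ (S : Subgroup Γ), x * s * x⁻¹ ∈ (S : Subgroup Γ)) →
    x ∈ Z
  sq : ∃ y, det y = 1 ∧ y * y = z

lemma Tow.zc {Γ : Type u} [Group Γ] {det : Γ →* D} {Z : Subgroup Γ} {z : Γ} (T : Tow det Z z) : z ∈ Subgroup.center Γ :=
  T.zle T.zZ

/-- the strong normaliser property -/
def NormIn {Γ : Type u} [Group Γ] (det : Γ →* D) (Z : Subgroup Γ) : Prop := ∀ P : Subgroup Γ, SylIn P det.ker → ∀ x : Γ,
  Odd (orderOf x) → (∀ s ∈ P, x * s * x⁻¹ ∈ P) → x ∈ Z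

/-- the data of a step of the tower -/
structure Step {Γ Γ' : Type u} [Group Γ] [Group Γ'] (det : Γ →* D) (det' : Γ' →* D) (Z : Subgroup Γ)
    (Z' : Subgroup Γ') (z : Γ) where
  j : Γ × Γ →* Γ'
  hj : Function.Injective j
  hdet : ∀ a b, det' (j (a, b)) = det a * det b
  τ : Γ'
  τ2 : τ * τ = 1
  hτ : ∀ a b, τ * j (a, b) * τ⁻¹ = j (b, a)
  hτd : det' τ = 1
  hcent : ∀ g : Γ', g * j (z, 1) = j (z, 1) * g → ∃ a b, g = j (a, b)
  zle' : Z' ≤ Subgroup.center Γ'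
  hcen : ∀ a ∈ Z, j (a, a) ∈ Z'
  hinv : ∀ u ∈ Z', u * u = 1 → u = 1 ∨ u = j (z, z)
  hcard : (Nat.card Γ').factorization 2 = 2 * (Nat.card Γ).factorization 2 + 1

namespace Step

variable {det : Γ →* D} {det' : Γ' →* D} {Z : Subgroup Γ} {Z' : Subgroup Γ'} {z : Γ} (St : Step det det' Z Z' z)

lemma tj (a b : Γ) : St.τ * St.j (a, b) = St.j (b, a) * St.τ := by
  rw [← St.hτ a b]; group

lemma jmul (a b c d : Γ) : St.j (a, b) * St.j (c, d) = St.j (a * c, b * d) := by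
  rw [← map_mul]; rfl

lemma jinv (a b : Γ) : (St.j (a, b))⁻¹ = St.j (a⁻¹, b⁻¹) := by
  rw [← map_inv]; rfl

lemma jeq {a b c d : Γ} (h : St.j (a, b) = St.j (c, d)) : a = c ∧ b = d := by
  have := St.hj h
  exact ⟨congrArg Prod.fst this, congrArg Prod.snd this⟩

lemma τinv : St.τ⁻¹ = St.τ := inv_eq_of_mul_eq_one_left St.τ2

/-- the wreath product -/
def wr (S : Subgroup Γ) : Subgroup Γ' where
  carrier := {g | ∃ a ∈ S, ∃ b ∈ S, g = St.j (a, b) ∨ g = St.j (a, b) * St.τ}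
  one_mem' := ⟨1, one_mem _, 1, one_mem _, Or.inl (map_one St.j).symm⟩
  mul_mem' := by
    rintro _ _ ⟨a, ha, b, hb, rfl | rfl⟩ ⟨c, hc, d, hd, rfl | rfl⟩
    · exact ⟨a * c, mul_mem ha hc, b * d, mul_mem hb hd, Or.inl (St.jmul ..)⟩
    · exact ⟨a * c, mul_mem ha hc, b * d, mul_mem hb hd, Or.inr (by rw [← mul_assoc, St.jmul])⟩
    · refine ⟨a * d, mul_mem ha hd, b * c, mul_mem hb hc, Or.inr ?_⟩
      rw [mul_assoc, St.tj, ← mul_assoc, St.jmul]
    · refine ⟨a * d, mul_mem ha hd, b * c, mul_mem hb hc, Or.inl ?_⟩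
      have e : St.j (a, b) * St.τ * (St.j (c, d) * St.τ) = St.j (a, b) * (St.τ * St.j (c, d)) * St.τ := by group
      rw [e, St.tj]
      have e2 : St.j (a, b) * (St.j (d, c) * St.τ) * St.τ = St.j (a, b) * St.j (d, c) * (St.τ * St.τ) := by group
      rw [e2, St.τ2, mul_one, St.jmul]
  inv_mem' := by
    rintro _ ⟨a, ha, b, hb, rfl | rfl⟩
    · exact ⟨a⁻¹, inv_mem ha, b⁻¹, inv_mem hb, Or.inl (St.jinv ..)⟩
    · refine ⟨b⁻¹, inv_mem hb, a⁻¹, inv_mem ha, Or.inr ?_⟩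
      rw [mul_inv_rev, St.τinv, St.jinv, St.tj]

lemma mem_wr {S : Subgroup Γ} {g : Γ'} :
    g ∈ St.wr S ↔ ∃ a ∈ S, ∃ b ∈ S, g = St.j (a, b) ∨ g = St.j (a, b) * St.τ := Iff.rfl

variable (T : Tow det Z z)

include T in
lemma τ_ne (a b : Γ) : St.τ ≠ St.j (a, b) := by
  intro h
  have h1 := St.hτ z 1
  rw [h, St.jinv, St.jmul, St.jmul] at h1
  have h2 := (St.jeq h1).2
  apply T.z1
  rw [← h2]; group

include T in
lemma mem_of_j {S : Subgroup Γ} {a b : Γ} (h : St.j (a, b) ∈ St.wr S) : a ∈ S ∧ b ∈ S := by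
  obtain ⟨c, hc, d, hd, h1 | h1⟩ := St.mem_wr.1 h
  · obtain ⟨rfl, rfl⟩ := St.jeq h1
    exact ⟨hc, hd⟩
  · exfalso
    apply St.τ_ne T (c⁻¹ * a) (d⁻¹ * b)
    rw [← St.jmul, ← St.jinv, h1]; group

lemma isPGroup_wr {S : Subgroup Γ} (hS : IsPGroup 2 S) : IsPGroup 2 (St.wr S) := by
  have key : ∀ a ∈ S, ∀ b ∈ S, ∃ k : ℕ, (St.j (a, b)) ^ 2 ^ k = 1 := by
    intro a ha b hb
    obtain ⟨k, hk⟩ := hS ⟨a, ha⟩
    obtain ⟨m, hm⟩ := hS ⟨b, hb⟩
    have hk' : a ^ 2 ^ k = 1 := congrArg Subtype.val hk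
    have hm' : b ^ 2 ^ m = 1 := congrArg Subtype.val hm
    refine ⟨k + m, ?_⟩
    rw [← map_pow]
    have : ((a, b) : Γ × Γ) ^ 2 ^ (k + m) = 1 := by
      refine Prod.ext ?_ ?_
      · show a ^ 2 ^ (k + m) = 1
        rw [pow_add, pow_mul, hk', one_pow]
      · show b ^ 2 ^ (k + m) = 1
        rw [pow_add, mul_comm, pow_mul, hm', one_pow]
    rw [this, map_one]
  rintro ⟨g, hg⟩
  obtain ⟨a, ha, b, hb, h | h⟩ := St.mem_wr.1 hg
  · obtain ⟨k, hk⟩ := key a ha b hb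
    exact ⟨k, Subtype.ext (by show g ^ 2 ^ k = 1; rw [h]; exact hk)⟩
  · obtain ⟨k, hk⟩ := key (a * b) (mul_mem ha hb) (b * a) (mul_mem hb ha)
    refine ⟨k + 1, Subtype.ext ?_⟩
    show g ^ 2 ^ (k + 1) = 1
    rw [pow_succ', pow_mul]
    have e : g ^ 2 = St.j (a * b, b * a) := by
      rw [h, pow_two]
      have e : St.j (a, b) * St.τ * (St.j (a, b) * St.τ) = St.j (a, b) * (St.τ * St.j (a, b)) * St.τ := by group
      rw [e, St.tj]
      have e2 : St.j (a, b) * (St.j (b, a) * St.τ) * St.τ = St.j (a, b) * St.j (b, a) * (St.τ * St.τ) := by group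
      rw [e2, St.τ2, mul_one, St.jmul]
    rw [e, hk]

include T in
lemma not_dvd_wr (S : Sylow 2 Γ) : ¬ 2 ∣ (St.wr (S : Subgroup Γ)).index := by
  set W := St.wr (S : Subgroup Γ) with hW
  set A : Subgroup Γ' := ((S : Subgroup Γ).prod (S : Subgroup Γ)).map St.j with hA
  have hAW : A ≤ W := by
    rintro _ ⟨⟨a, b⟩, ⟨ha, hb⟩, rfl⟩
    exact ⟨a, ha, b, hb, Or.inl rfl⟩
  have hcA : Nat.card A = Nat.card (S : Subgroup Γ) ^ 2 := by
    rw [hA, Subgroup.card_map_of_injective St.hj, Nat.card_congr (Subgroup.prodEquiv _ _).toEquiv, Nat.card_prod, pow_two]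
  have hmul : Nat.card A * A.relIndex W = Nat.card W := by
    have := Subgroup.relIndex_mul_relIndex (⊥ : Subgroup Γ') A W bot_le hAW
    rwa [Subgroup.relIndex_bot_left, Subgroup.relIndex_bot_left] at this
  have hne : A.relIndex W ≠ 1 := by
    rw [Ne, Subgroup.relIndex_eq_one]
    intro h
    have h1 : St.τ ∈ W := ⟨1, one_mem _, 1, one_mem _, Or.inr (by
      have : St.j (1, 1) = 1 := map_one St.j
      rw [this, one_mul])⟩
    obtain ⟨⟨a, b⟩, -, h2⟩ := h h1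
    exact St.τ_ne T a b h2.symm
  have h2 : 2 ∣ A.relIndex W := by
    obtain ⟨k, hk⟩ := IsPGroup.iff_card.1 (St.isPGroup_wr S.isPGroup')
    have h3 : A.relIndex W ∣ 2 ^ k := by rw [← hk, ← hW, ← hmul]; exact dvd_mul_left _ _
    obtain ⟨i, -, hi⟩ := (Nat.dvd_prime_pow Nat.prime_two).1 h3
    rw [hi] at hne ⊢
    cases i with
    | zero => exact absurd rfl hne
    | succ i => exact dvd_pow_self 2 (Nat.succ_ne_zero i)
  obtain ⟨r, hr⟩ := h2
  intro hd
  obtain ⟨t, ht⟩ := hd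
  have h4 := W.card_mul_index
  have h5 : Nat.card (S : Subgroup Γ) = 2 ^ (Nat.card Γ).factorization 2 := S.card_eq_multiplicity
  have h6 : 2 ^ (2 * (Nat.card Γ).factorization 2 + 2) ∣ Nat.card Γ' := by
    refine ⟨r * t, ?_⟩
    rw [← h4, ← hmul, hr, hcA, ht, h5]
    ring
  have h7 := (Nat.prime_two.pow_dvd_iff_le_factorization (Nat.card_pos (α := Γ')).ne').1 h6
  rw [St.hcard] at h7
  omega

/-- the Sylow subgroup of the big group -/
noncomputable def wrSyl (S : Sylow 2 Γ) : Sylow 2 Γ' := (St.isPGroup_wr S.isPGroup').toSylow (St.not_dvd_wr T S)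

lemma wrSyl_coe (S : Sylow 2 Γ) : ((St.wrSyl T S : Sylow 2 Γ') : Subgroup Γ') = St.wr (S : Subgroup Γ) := rfl

lemma j_mem {S : Subgroup Γ} {a b : Γ} (ha : a ∈ S) (hb : b ∈ S) (h : det a * det b = 1) :
    St.j (a, b) ∈ St.wr S ⊓ det'.ker :=
  Subgroup.mem_inf.2 ⟨⟨a, ha, b, hb, Or.inl rfl⟩, by rw [MonoidHom.mem_ker, St.hdet, h]⟩

lemma τ_mem (S : Subgroup Γ) : St.τ ∈ St.wr S ⊓ det'.ker :=
  Subgroup.mem_inf.2 ⟨⟨1, one_mem _, 1, one_mem _, Or.inr (by
      have : St.j (1, 1) = 1 := map_one St.j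
      rw [this, one_mul])⟩, St.hτd⟩

include T in
/-- a square root of `z` in the Sylow subgroup -/
lemma exists_sqrt (S : Sylow 2 Γ) : ∃ y ∈ (S : Subgroup Γ), det y = 1 ∧ y * y = z := by
  obtain ⟨y, hy1, hy2⟩ := T.sq
  have h1 : IsPGroup 2 (Subgroup.zpowers y) := by
    rintro ⟨x, n, rfl⟩
    refine ⟨2, Subtype.ext ?_⟩
    show (y ^ n) ^ 2 ^ 2 = 1
    have h4 : y ^ 4 = 1 := by
      calc y ^ 4 = (y * y) * (y * y) := by simp [pow_succ, mul_assoc]
        _ = 1 := by rw [hy2, T.z2]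
    rw [← zpow_natCast, ← zpow_mul, mul_comm, zpow_mul]
    have : y ^ ((2 ^ 2 : ℕ) : ℤ) = 1 := by rw [zpow_natCast]; exact h4
    rw [this, one_zpow]
  obtain ⟨Q, hQ⟩ := h1.exists_le_sylow
  obtain ⟨g, hg⟩ := MulAction.exists_smul_eq Γ Q S
  refine ⟨g * y * g⁻¹, ?_, ?_, ?_⟩
  · rw [← hg, Sylow.coe_subgroup_smul, Subgroup.mem_pointwise_smul_iff_inv_smul_mem, ← map_inv, MulAut.smul_def,
      MulAut.conj_apply, inv_inv]
    have e : g⁻¹ * (g * y * g⁻¹) * g = y := by group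
    rw [e]
    exact hQ (Subgroup.mem_zpowers y)
  · rw [map_mul, map_mul, hy1, mul_one, map_inv, mul_inv_cancel]
  · have e : g * y * g⁻¹ * (g * y * g⁻¹) = g * (y * y) * g⁻¹ := by group
    rw [e, hy2, (Subgroup.mem_center_iff.1 T.zc g), mul_inv_cancel_right]

include T in
/-- a non-scalar pair is not centralised ... -/
lemma cent_e {S : Sylow 2 Γ} {c : Γ'} (h : ∀ s ∈ St.wr (S : Subgroup Γ) ⊓ det'.ker, c * s = s * c) :
    c ∈ Z' := by
  obtain ⟨y, hyS, hy1, hy2⟩ := exists_sqrt T S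
  have hzS : z ∈ (S : Subgroup Γ) := by rw [← hy2]; exact mul_mem hyS hyS
  obtain ⟨a, b, rfl⟩ := St.hcent c (h _ (St.j_mem hzS (one_mem _) (by rw [T.zd, map_one, mul_one])))
  have ha : a ∈ Z := T.cent _ (sylIn_inf S det.ker) a fun p hp => by
    have h1 := h _ (St.j_mem hp.1 (one_mem _) (by rw [(MonoidHom.mem_ker).1 hp.2, map_one, mul_one]))
    rw [St.jmul, St.jmul] at h1
    exact (St.jeq h1).1
  have h2 := h _ (St.τ_mem (S : Subgroup Γ))
  rw [St.tj] at h2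
  have h3 := (St.jeq (mul_right_cancel h2)).1
  rw [← h3]
  exact St.hcen a ha

include T in
theorem normIn_aux (S : Sylow 2 Γ) {x : Γ'} (hx : Odd (orderOf x))
    (hn : ∀ s ∈ St.wr (S : Subgroup Γ) ⊓ det'.ker, x * s * x⁻¹ ∈ St.wr (S : Subgroup Γ) ⊓ det'.ker) :
    x ∈ Z' := by
  obtain ⟨y, hyS, hy1, hy2⟩ := exists_sqrt T S
  have hzS : z ∈ (S : Subgroup Γ) := by rw [← hy2]; exact mul_mem hyS hyS
  set P' := St.wr (S : Subgroup Γ) ⊓ det'.ker with hP'
  set e := St.j (z, 1) with he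
  set ζ := St.j (z, z) with hζ
  have hζc : ∀ g, g * ζ = ζ * g := fun g => Subgroup.mem_center_iff.1 (St.zle' (St.hcen z T.zZ)) g
  have hzc : ∀ g, g * z = z * g := fun g => Subgroup.mem_center_iff.1 T.zc g
  have hζ2 : ζ * ζ = 1 := by rw [hζ, St.jmul, T.z2]; exact map_one St.j
  have heP : e ∈ P' := St.j_mem hzS (one_mem _) (by rw [T.zd, map_one, mul_one])
  -- conjugates of `e` under `P'`
  have h1 : ∀ s ∈ P', s * e * s⁻¹ = e ∨ s * e * s⁻¹ = ζ * e := by
    rintro s ⟨⟨a, ha, b, hb, rfl | rfl⟩, -⟩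
    · left
      rw [he, St.jinv, St.jmul, St.jmul, hzc a]
      congr 2 <;> group
    · right
      rw [he, hζ, mul_inv_rev, St.jmul]
      have e1 : St.j (a, b) * St.τ * St.j (z, 1) * (St.τ⁻¹ * (St.j (a, b))⁻¹) =
          St.j (a, b) * (St.τ * St.j (z, 1) * St.τ⁻¹) * (St.j (a, b))⁻¹ := by group
      rw [e1, St.hτ, St.jinv, St.jmul, St.jmul, T.z2, hzc b]
      congr 2 <;> group
  set e' := x * e * x⁻¹ with he'
  have he'P : e' ∈ P' := hn e heP
  have h2 : ∀ s ∈ P', s * e' * s⁻¹ = e' ∨ s * e' * s⁻¹ = ζ * e' := by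
    intro s hs
    have h3 := norm_inv hn s hs
    have e1 : s * e' * s⁻¹ = x * ((x⁻¹ * s * x) * e * (x⁻¹ * s * x)⁻¹) * x⁻¹ := by rw [he']; group
    rcases h1 _ h3 with h4 | h4
    · left; rw [e1, h4]
    · right
      rw [e1, h4, he', ← mul_assoc, hζc x]; group
  -- `e` commutes with `e'`
  have hY : St.j (y, 1) ∈ P' := St.j_mem hyS (one_mem _) (by rw [hy1, map_one, mul_one])
  have h5 : e * e' = e' * e := by
    have h6 : (St.j (y, 1)) * (St.j (y, 1)) = e := by rw [St.jmul, hy2, one_mul]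
    have h7 : St.j (y, 1) * (St.j (y, 1) * e' * (St.j (y, 1))⁻¹) * (St.j (y, 1))⁻¹ = e' := by
      rcases h2 _ hY with h8 | h8
      · rw [h8, h8]
      · rw [h8]
        have e2 : St.j (y, 1) * (ζ * e') * (St.j (y, 1))⁻¹ = ζ * (St.j (y, 1) * e' * (St.j (y, 1))⁻¹) := by
          rw [← mul_assoc (St.j (y, 1)), hζc]; group
        rw [e2, h8, ← mul_assoc, hζ2, one_mul]
    have e3 : St.j (y, 1) * (St.j (y, 1) * e' * (St.j (y, 1))⁻¹) * (St.j (y, 1))⁻¹ =
        (St.j (y, 1) * St.j (y, 1)) * e' * (St.j (y, 1) * St.j (y, 1))⁻¹ := by group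
    rw [e3, h6] at h7
    rwa [mul_inv_eq_iff_eq_mul] at h7
  obtain ⟨a, b, hab⟩ := St.hcent e' h5.symm
  have he2 : e * e = 1 := by rw [he, St.jmul, T.z2, one_mul]; exact map_one St.j
  have hsq : e' * e' = 1 := by
    have : e' * e' = x * (e * e) * x⁻¹ := by rw [he']; group
    rw [this, he2]; group
  rw [hab, St.jmul] at hsq
  have hsq' := St.jeq (hsq.trans (map_one St.j).symm : _ = St.j (1, 1))
  have ha : a ∈ Z := T.cent _ (sylIn_inf S det.ker) a fun p hp => by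
    have h8 := h2 _ (St.j_mem hp.1 (one_mem _) (by rw [(MonoidHom.mem_ker).1 hp.2, map_one, mul_one]))
    rw [hab, hζ, St.jinv, St.jmul, St.jmul, St.jmul] at h8
    rcases h8 with h8 | h8
    · have := (St.jeq h8).1
      rw [mul_inv_eq_iff_eq_mul] at this
      exact this.symm
    · exfalso
      have := (St.jeq h8).2
      apply T.z1
      have h9 : b = z * b := by simpa using this
      exact (mul_eq_right.1 h9.symm)
  have hb : b ∈ Z := T.cent _ (sylIn_inf S det.ker) b fun p hp => by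
    have h8 := h2 _ (St.j_mem (one_mem _) hp.1 (by rw [(MonoidHom.mem_ker).1 hp.2, map_one, mul_one]))
    rw [hab, hζ, St.jinv, St.jmul, St.jmul, St.jmul] at h8
    rcases h8 with h8 | h8
    · have := (St.jeq h8).2
      rw [mul_inv_eq_iff_eq_mul] at this
      exact this.symm
    · exfalso
      have := (St.jeq h8).1
      apply T.z1
      have h9 : a = z * a := by simpa using this
      exact (mul_eq_right.1 h9.symm)
  have hxe : x * e = e * x := by
    have hx0 : e = x⁻¹ * e' * x := by rw [he']; group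
    rcases T.inv a ha hsq'.1 with rfl | rfl <;> rcases T.inv b hb hsq'.2 with h9 | h9
    · exfalso
      have h10 : e' = 1 := by rw [hab, h9]; exact map_one St.j
      rw [h10, mul_one, inv_mul_cancel] at hx0
      exact T.z1 (St.jeq (hx0.trans (map_one St.j).symm : St.j (z, 1) = St.j (1, 1))).1
    · rw [h9] at hab
      apply commute_of_sq hx
      have h10 : x * e = ζ * e * x := by
        have h11 : e' = ζ * e := by rw [hab, he, hζ, St.jmul, T.z2, mul_one]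
        rw [← h11, he']; group
      rw [mul_assoc, h10]
      have e4 : x * (ζ * e * x) = (x * ζ) * e * x := by group
      rw [e4, hζc, mul_assoc ζ, h10, ← mul_assoc, ← mul_assoc, hζ2, one_mul]; group
    · rw [h9] at hab
      have h10 : x * e * x⁻¹ = e := by rw [← he', hab]
      rwa [mul_inv_eq_iff_eq_mul] at h10
    · exfalso
      rw [h9, ← hζ] at hab
      rw [hab, mul_assoc, ← hζc, ← mul_assoc, inv_mul_cancel, one_mul] at hx0
      exact T.z1 ((St.jeq hx0).2).symm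
  obtain ⟨x₁, x₂, rfl⟩ := St.hcent x hxe
  -- orders
  have hpow : (x₁, x₂) ^ orderOf (St.j (x₁, x₂)) = (1 : Γ × Γ) := by
    apply St.hj
    rw [map_pow, pow_orderOf_eq_one, map_one]
  have hp1 : x₁ ^ orderOf (St.j (x₁, x₂)) = 1 := congrArg Prod.fst hpow
  have hp2 : x₂ ^ orderOf (St.j (x₁, x₂)) = 1 := congrArg Prod.snd hpow
  have hc1 : x₁ ∈ Z := T.norm S x₁ (odd_of_pow hx hp1) fun s hs => by
    have h10 := (hn _ (St.j_mem hs (inv_mem hs) (by rw [map_inv, mul_inv_cancel]))).1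
    rw [St.jinv, St.jmul, St.jmul] at h10
    exact (St.mem_of_j T h10).1
  have hc2 : x₂ ∈ Z := T.norm S x₂ (odd_of_pow hx hp2) fun s hs => by
    have h10 := (hn _ (St.j_mem (inv_mem hs) hs (by rw [map_inv, inv_mul_cancel]))).1
    rw [St.jinv, St.jmul, St.jmul] at h10
    exact (St.mem_of_j T h10).2
  have h11 : St.j (x₁ * x₂⁻¹, x₂ * x₁⁻¹) ∈ P' := by
    have h12 := mul_mem (hn _ (St.τ_mem _)) (inv_mem (St.τ_mem (S : Subgroup Γ)))
    have e5 : St.j (x₁, x₂) * St.τ * (St.j (x₁, x₂))⁻¹ * St.τ⁻¹ =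
        St.j (x₁, x₂) * (St.τ * St.j (x₁⁻¹, x₂⁻¹) * St.τ⁻¹) := by rw [St.jinv]; group
    rw [e5, St.hτ, St.jmul] at h12
    exact h12
  have h13 : x₁ * x₂⁻¹ = 1 := by
    refine eq_one_of_odd_of_two (odd_of_pow hx ?_) S.isPGroup' (St.mem_of_j T h11.1).1
    have hcm : Commute x₁ x₂⁻¹ := ((Subgroup.mem_center_iff.1 (T.zle (inv_mem hc2))) x₁)
    rw [hcm.mul_pow, hp1, inv_pow, hp2, inv_one, mul_one]
  have h14 : x₁ = x₂ := by rwa [mul_inv_eq_one] at h13
  rw [← h14]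
  exact St.hcen x₁ hc1

include St T in
theorem normIn : NormIn det' Z' := by
  intro P hP x hx hn
  obtain ⟨S⟩ : Nonempty (Sylow 2 Γ) := inferInstance
  have h1 : SylIn (St.wr (S : Subgroup Γ) ⊓ det'.ker) det'.ker := sylIn_inf (St.wrSyl T S) det'.ker
  obtain ⟨g, -, hg⟩ := hP.conj h1
  have h2 : g * x * g⁻¹ ∈ Z' := by
    apply St.normIn_aux T S
    · have : orderOf (g * x * g⁻¹) = orderOf x := by
        have := orderOf_injective (MulAut.conj g).toMonoidHom (MulAut.conj g).injective x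
        simpa using this
      rwa [this]
    · intro s hs
      rw [hg] at hs ⊢
      have h3 := hn _ hs
      have e : g⁻¹ * (g * x * g⁻¹ * s * (g * x * g⁻¹)⁻¹) * g = x * (g⁻¹ * s * g) * x⁻¹ := by group
      rwa [e]
  have h3 := Subgroup.mem_center_iff.1 (St.zle' h2) g
  have e : x = g * x * g⁻¹ := by
    have e1 : g * (g * x * g⁻¹) = g * x := by rw [h3]; group
    exact (mul_left_cancel e1).symm
  rw [e]; exact h2

include T in
/-- the step of the induction -/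
theorem tow : Tow det' Z' (St.j (z, z)) where
  zle := St.zle'
  zZ := St.hcen z T.zZ
  z2 := by rw [St.jmul, T.z2]; exact map_one St.j
  z1 := fun h => T.z1 (St.jeq (h.trans (map_one St.j).symm : _ = St.j (1, 1))).1
  zd := by rw [St.hdet, T.zd, mul_one]
  inv := St.hinv
  cent := by
    intro P hP c hc
    obtain ⟨S⟩ : Nonempty (Sylow 2 Γ) := inferInstance
    have h1 : SylIn (St.wr (S : Subgroup Γ) ⊓ det'.ker) det'.ker := sylIn_inf (St.wrSyl T S) det'.ker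
    obtain ⟨g, -, hg⟩ := hP.conj h1
    have h2 : g * c * g⁻¹ ∈ Z' := by
      apply St.cent_e T (S := S)
      intro s hs
      rw [hg] at hs
      have h3 := hc _ hs
      have e1 : g * c * g⁻¹ * s = g * (c * (g⁻¹ * s * g)) * g⁻¹ := by group
      have e2 : s * (g * c * g⁻¹) = g * ((g⁻¹ * s * g) * c) * g⁻¹ := by group
      rw [e1, e2, h3]
    have h3 := Subgroup.mem_center_iff.1 (St.zle' h2) g
    have e : c = g * c * g⁻¹ := by
      have e1 : g * (g * c * g⁻¹) = g * c := by rw [h3]; group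
      exact (mul_left_cancel e1).symm
    rw [e]; exact h2
  norm := by
    intro Q x hx hn
    refine St.normIn T _ (sylIn_inf Q det'.ker) x hx ?_
    intro s hs
    refine ⟨hn s hs.1, ?_⟩
    exact (inferInstance : det'.ker.Normal).conj_mem s hs.2 x
  sq := by
    obtain ⟨y, h1, h2⟩ := T.sq
    exact ⟨St.j (y, y), by rw [St.hdet, h1, mul_one], by rw [St.jmul, h2]⟩

end Step

end Cfsg.Agent.H95
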